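import Groth.Agent.Lefpen.H707.Cotan
import Mathlib.RingTheory.Nullstellensatz
import Mathlib.Algebra.MvPolynomial.PDeriv
import Mathlib.RingTheory.MvPolynomial.EulerIdentity
import Mathlib.RingTheory.Finiteness.Nakayama

/-!
# The ideal of a non-degenerate quadratic form and its partials contains a power of the variables

and a Nakayama type consequence.
-/

set_option autoImplicit false

open MvPolynomial

namespace Groth.Agent.Lefpen.H707.NonSingIdeal

section Null

variable {k : Type*} [Field k] {n : ℕ}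

/-- A form together with its partials, as a family. -/
noncomputable def gens (Q : MvPolynomial (Fin n) k) : Option (Fin n) → MvPolynomial (Fin n) k
  | none => Q
  | some l => pderiv l Q

theorem exists_pow_le [IsAlgClosed k] {Q : MvPolynomial (Fin n) k}
    (hQ : ∀ v : Fin n → k, v ≠ 0 → eval v Q = 0 → ∃ l, eval v (pderiv l Q) ≠ 0) :
    ∃ M, 2 ≤ M ∧ idealOfVars (Fin n) k ^ M ≤ Ideal.span (Set.range (gens Q)) := by
  have h1 : idealOfVars (Fin n) k ≤ (Ideal.span (Set.range (gens Q))).radical := by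
    rw [← vanishingIdeal_zeroLocus_eq_radical (K := k), idealOfVars, Ideal.span_le]
    rintro _ ⟨i, rfl⟩
    rw [SetLike.mem_coe, mem_vanishingIdeal_iff]
    intro v hv
    rw [zeroLocus_span] at hv
    have hv' : ∀ o, aeval v (gens Q o) = 0 := fun o ↦ hv _ ⟨o, rfl⟩
    have h2 : v = 0 := by
      by_contra hne
      obtain ⟨l, hl⟩ := hQ v hne (by simpa [aeval_eq_eval, gens] using hv' none)
      exact hl (by simpa [aeval_eq_eval, gens] using hv' (some l))
    rw [h2, aeval_X, Pi.zero_apply]
  obtain ⟨M, hM⟩ := Ideal.exists_pow_le_of_le_radical_of_fg h1 (idealOfVars_fg _ _)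
  exact ⟨M + 2, by omega, (Ideal.pow_le_pow_right (by omega)).trans hM⟩

theorem homogeneousComponent_mul {σ : Type*} (i j : ℕ) (F : MvPolynomial σ k) {Q : MvPolynomial σ k}
    (hQ : Q.IsHomogeneous j) :
    homogeneousComponent (i + j) (F * Q) = homogeneousComponent i F * Q := by
  classical
  let : GradedAlgebra (homogeneousSubmodule σ k) := MvPolynomial.gradedAlgebra
  have h1 := DirectSum.coe_decompose_mul_add_of_right_mem (homogeneousSubmodule σ k) (i := i) (a := F)
    (b := Q) ((mem_homogeneousSubmodule j Q).2 hQ)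
  have h2 : ∀ (G : MvPolynomial σ k) (s : ℕ),
      (DirectSum.decompose (homogeneousSubmodule σ k) G s : MvPolynomial σ k) = homogeneousComponent s G := by
    intro G s
    exact decomposition.decompose'_apply G s
  rw [h2, h2] at h1
  exact h1

/-- A homogeneous polynomial of degree `M` in the ideal of `Q` and its partials is a combination with homogeneous
coefficients. -/
theorem exists_homogeneous_coeffs {Q : MvPolynomial (Fin n) k} (hQ : Q.IsHomogeneous 2) {M : ℕ}
    {P : MvPolynomial (Fin n) k} (hP : P.IsHomogeneous (M + 2)) (h : P ∈ Ideal.span (Set.range (gens Q))) :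
    ∃ (F : MvPolynomial (Fin n) k) (G : Fin n → MvPolynomial (Fin n) k), F.IsHomogeneous M ∧
      (∀ l, (G l).IsHomogeneous (M + 1)) ∧ P = F * Q + ∑ l, G l * pderiv l Q := by
  rw [Ideal.mem_span_range_iff_exists_fun] at h
  obtain ⟨c, hc⟩ := h
  rw [Fintype.sum_option] at hc
  refine ⟨homogeneousComponent M (c none), fun l ↦ homogeneousComponent (M + 1) (c (some l)),
    homogeneousComponent_isHomogeneous _ _, fun l ↦ homogeneousComponent_isHomogeneous _ _, ?_⟩
  have h1 : homogeneousComponent (M + 2) P = P := homogeneousComponent_eq_self hP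
  rw [← h1, ← hc, map_add, map_sum]
  congr 1
  · exact homogeneousComponent_mul M 2 _ hQ
  · refine Finset.sum_congr rfl fun l _ ↦ ?_
    exact homogeneousComponent_mul (M + 1) 1 _ hQ.pderiv

end Null

section Nak

variable {k C : Type*} [Field k] [CommRing C] [Algebra k C] {n : ℕ}

/-- The quadratic form with given coefficients. -/
noncomputable def quad (b : Fin n → Fin n → k) : MvPolynomial (Fin n) k :=
  ∑ i, ∑ j, MvPolynomial.C (b i j) * (X i * X j)

theorem quad_isHomogeneous (b : Fin n → Fin n → k) : (quad b).IsHomogeneous 2 := by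
  refine IsHomogeneous.sum _ _ 2 fun i _ ↦ IsHomogeneous.sum _ _ 2 fun j _ ↦ ?_
  have := (isHomogeneous_C (Fin n) (b i j)).mul ((isHomogeneous_X k i).mul (isHomogeneous_X k j))
  simpa using this

theorem pderiv_quad (b : Fin n → Fin n → k) (l : Fin n) :
    pderiv l (quad b) = ∑ j, MvPolynomial.C (b l j + b j l) * X j := by
  classical
  simp only [quad, map_sum, pderiv_C_mul]
  simp only [Derivation.leibniz, pderiv_X, smul_eq_mul]
  have h1 : ∀ i j : Fin n, (MvPolynomial.C (b i j) : MvPolynomial (Fin n) k) *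
      (X i * Pi.single (M := fun _ ↦ MvPolynomial (Fin n) k) l 1 j +
        X j * Pi.single (M := fun _ ↦ MvPolynomial (Fin n) k) l 1 i) =
      (if j = l then MvPolynomial.C (b i j) * X i else 0) +
        (if i = l then MvPolynomial.C (b i j) * X j else 0) := by
    intro i j
    rw [mul_add, Pi.single_apply, Pi.single_apply]
    congr 1 <;> split_ifs <;> simp
  simp only [h1, Finset.sum_add_distrib, Finset.sum_ite_eq', Finset.mem_univ, if_true]
  rw [Finset.sum_comm (f := fun i j ↦ if i = l then MvPolynomial.C (b i j) * X j else 0)]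
  simp only [Finset.sum_ite_eq', Finset.mem_univ, if_true, ← Finset.sum_add_distrib]
  refine Finset.sum_congr rfl fun j _ ↦ ?_
  rw [map_add, add_mul, add_comm]

theorem aeval_quad (b : Fin n → Fin n → k) (δ : Fin n → C) :
    aeval δ (quad b) = ∑ i, ∑ j, algebraMap k C (b i j) * (δ i * δ j) := by
  simp [quad, map_sum, map_mul]

/-- Nakayama argument: if the quadratic form `∑ b_ij δ_i δ_j` is in `J³` and its partials are in `J²`, and the form is
non-degenerate at the point `ev`, then a power of `J` is killed by an element equal to `1` at `ev`. -/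
theorem exists_annihilator [IsAlgClosed k] (J : Ideal C) (hJ : J.FG) (δ : Fin n → C) (hδ : ∀ i, δ i ∈ J)
    (hJδ : J ≤ Ideal.span (Set.range δ) ⊔ J ^ 2) (ev : C →ₐ[k] k) (hev : ∀ x ∈ J, ev x = 0)
    (b : Fin n → Fin n → C) (h1 : ∑ i, ∑ j, b i j * (δ i * δ j) ∈ J ^ 3)
    (h2 : ∀ l, ∑ j, (b l j + b j l) * δ j ∈ J ^ 2)
    (hns : ∀ v : Fin n → k, v ≠ 0 → eval v (quad fun i j ↦ ev (b i j)) = 0 →
      ∃ l, eval v (pderiv l (quad fun i j ↦ ev (b i j))) ≠ 0) :
    ∃ (Φ : C) (M : ℕ), ev Φ = 1 ∧ ∀ x ∈ J ^ M, Φ * x = 0 := by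
  classical
  let m : Ideal C := RingHom.ker (ev : C →+* k)
  have hm : ∀ x, x ∈ m ↔ ev x = 0 := fun x ↦ RingHom.mem_ker
  have hJm : J ≤ m := fun x hx ↦ (hm x).2 (hev x hx)
  let Q := quad fun i j ↦ ev (b i j)
  have hQ : Q.IsHomogeneous 2 := quad_isHomogeneous _
  obtain ⟨M, hM2, hM⟩ := exists_pow_le hns
  obtain ⟨M, rfl⟩ : ∃ M', M = M' + 2 := ⟨M - 2, by omega⟩
  have hsub : ∀ x : C, algebraMap k C (ev x) - x ∈ m := by
    intro x
    rw [hm, map_sub, AlgHom.commutes, Algebra.algebraMap_self, RingHom.id_apply, sub_self]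
  -- values of the form and its partials at `δ`
  have hQδ : aeval δ Q ∈ m * J ^ 2 := by
    rw [aeval_quad]
    have e1 : ∑ i, ∑ j, algebraMap k C (ev (b i j)) * (δ i * δ j) =
        ∑ i, ∑ j, (algebraMap k C (ev (b i j)) - b i j) * (δ i * δ j) + ∑ i, ∑ j, b i j * (δ i * δ j) := by
      rw [← Finset.sum_add_distrib]
      refine Finset.sum_congr rfl fun i _ ↦ ?_
      rw [← Finset.sum_add_distrib]
      refine Finset.sum_congr rfl fun j _ ↦ ?_
      ring
    rw [e1]
    refine add_mem (sum_mem fun i _ ↦ sum_mem fun j _ ↦ Ideal.mul_mem_mul (hsub _) ?_) ?_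
    · rw [pow_two]
      exact Ideal.mul_mem_mul (hδ i) (hδ j)
    · rw [pow_succ'] at h1
      exact Ideal.mul_mono_left hJm h1
  have hQδ' : ∀ l, aeval δ (pderiv l Q) ∈ m * J := by
    intro l
    have e0 : aeval δ (pderiv l Q) = ∑ j, algebraMap k C (ev (b l j) + ev (b j l)) * δ j := by
      rw [show pderiv l Q = _ from pderiv_quad _ l]
      simp [map_sum, map_mul]
    rw [e0]
    have e1 : ∑ j, algebraMap k C (ev (b l j) + ev (b j l)) * δ j =
        ∑ j, (algebraMap k C (ev (b l j + b j l)) - (b l j + b j l)) * δ j + ∑ j, (b l j + b j l) * δ j := by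
      rw [← Finset.sum_add_distrib]
      refine Finset.sum_congr rfl fun j _ ↦ ?_
      rw [map_add ev]
      ring
    rw [e1]
    refine add_mem (sum_mem fun j _ ↦ Ideal.mul_mem_mul (hsub _) (hδ j)) ?_
    have h3 := h2 l
    rw [pow_two] at h3
    exact Ideal.mul_mono_left hJm h3
  -- every homogeneous polynomial of degree `M + 2` takes a value in `m * J ^ (M + 2)`
  have key : ∀ P : MvPolynomial (Fin n) k, P.IsHomogeneous (M + 2) → aeval δ P ∈ m * J ^ (M + 2) := by
    intro P hP
    obtain ⟨F, G, hF, hG, rfl⟩ := exists_homogeneous_coeffs hQ hP (hM (Cotan.mem_pow_of_isHomogeneous hP))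
    have hval : ∀ {s : ℕ} {F : MvPolynomial (Fin n) k}, F.IsHomogeneous s → aeval δ F ∈ J ^ s := fun hF ↦
      Cotan.eval₂_mem_pow (algebraMap k C) J hδ _ (Cotan.mem_pow_of_isHomogeneous hF)
    rw [map_add, map_sum, map_mul]
    refine add_mem ?_ (sum_mem fun l _ ↦ ?_)
    · have e1 : m * J ^ (M + 2) = J ^ M * (m * J ^ 2) := by
        rw [pow_add]; ring
      rw [e1]
      exact Ideal.mul_mem_mul (hval hF) hQδ
    · rw [map_mul]
      have e1 : m * J ^ (M + 2) = J ^ (M + 1) * (m * J) := by
        rw [show M + 2 = M + 1 + 1 from rfl, pow_succ J (M + 1)]; ring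
      rw [e1]
      exact Ideal.mul_mem_mul (hval (hG l)) (hQδ' l)
  have hspan : Ideal.span (Set.range δ) ^ (M + 2) ≤ m * J ^ (M + 2) := by
    intro w hw
    rw [Ideal.mem_span_pow_iff_exists_isHomogeneous] at hw
    obtain ⟨p, hp, rfl⟩ := hw
    rw [eval_eq']
    refine sum_mem fun e he ↦ Ideal.mul_mem_left _ _ ?_
    have h4 : (monomial e (1 : k)).IsHomogeneous (M + 2) := by
      apply isHomogeneous_monomial
      by_contra hne
      rw [mem_support_iff] at he
      exact he (hp.coeff_eq_zero hne)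
    have h5 := key _ h4
    rw [aeval_monomial, map_one, one_mul, Finsupp.prod_fintype _ _ (fun i ↦ pow_zero _)] at h5
    exact h5
  have hJle : ∀ s, J ^ s ≤ Ideal.span (Set.range δ) ^ s ⊔ m * J ^ s := by
    intro s
    induction s with
    | zero => simp
    | succ s ih =>
      have hδJ : Ideal.span (Set.range δ) ≤ J := by
        rw [Ideal.span_le]
        rintro _ ⟨i, rfl⟩
        exact hδ i
      have h6 : J ≤ Ideal.span (Set.range δ) ⊔ m * J := by
        refine hJδ.trans (sup_le_sup le_rfl ?_)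
        rw [pow_two]
        exact Ideal.mul_mono_left hJm
      calc J ^ (s + 1) = J ^ s * J := pow_succ _ _
        _ ≤ (Ideal.span (Set.range δ) ^ s ⊔ m * J ^ s) * (Ideal.span (Set.range δ) ⊔ m * J) :=
          Ideal.mul_mono ih h6
        _ ≤ Ideal.span (Set.range δ) ^ (s + 1) ⊔ m * J ^ (s + 1) := by
          rw [Ideal.sup_mul, Ideal.mul_sup, Ideal.mul_sup]
          refine sup_le (sup_le ?_ ?_) (sup_le ?_ ?_)
          · rw [← pow_succ]
            exact le_sup_left
          · refine le_trans ?_ le_sup_right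
            calc Ideal.span (Set.range δ) ^ s * (m * J) ≤ J ^ s * (m * J) :=
                  Ideal.mul_mono_left (Ideal.pow_right_mono hδJ s)
              _ = m * J ^ (s + 1) := by rw [pow_succ]; ring
          · refine le_trans ?_ le_sup_right
            calc m * J ^ s * Ideal.span (Set.range δ) ≤ m * J ^ s * J := Ideal.mul_mono_right hδJ
              _ = m * J ^ (s + 1) := by rw [pow_succ]; ring
          · refine le_trans ?_ le_sup_right
            calc m * J ^ s * (m * J) ≤ m * J ^ s * J := Ideal.mul_mono_right Ideal.mul_le_right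
              _ = m * J ^ (s + 1) := by rw [pow_succ]; ring
  have hfin : J ^ (M + 2) ≤ m • J ^ (M + 2) := by
    rw [smul_eq_mul]
    exact (hJle (M + 2)).trans (sup_le hspan le_rfl)
  obtain ⟨Φ, hΦ, hΦ'⟩ := Submodule.exists_sub_one_mem_and_smul_eq_zero_of_fg_of_le_smul m (J ^ (M + 2))
    (hJ.pow) hfin
  refine ⟨Φ, M + 2, ?_, fun x hx ↦ hΦ' x hx⟩
  rw [hm, map_sub, map_one, sub_eq_zero] at hΦ
  exact hΦ

end Nak

end Groth.Agent.Lefpen.H707.NonSingIdeal
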