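import Groth.Agent.Lefpen.H707.ChartData
import Groth.Agent.Lefpen.H705.OrdQuadHyp
import Groth.Agent.Lefpen.H703.NondegQuadCrit

/-!
# The leading form at an ordinary quadratic singularity of a hyperplane section is non-degenerate
-/

set_option autoImplicit false
universe u

open CategoryTheory AlgebraicGeometry Limits TopologicalSpace Opposite

namespace Groth.Agent.Lefpen.H707.D2Converse

open LefPen IsLocalRing Groth.Agent.Lefpen.H705.ClosedPoint Groth.Agent.Lefpen.H705.SecIdeal
open Groth.Agent.Lefpen.H705.OrdQuadHyp Groth.Agent.Lefpen.H703.NondegOpen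
open Groth.Agent.Lefpen.H707.ChartData Groth.Agent.Lefpen.H707.Leading

section Pure

variable {k : Type*} [Field k] {R : Type*} [CommRing R] [IsLocalRing R] [IsNoetherianRing R]

/-- A minimal system of generators of the maximal ideal is linearly independent modulo the square. -/
theorem lin_of_span (σ : k →+* R) {n : ℕ}
    (hn : Module.finrank (ResidueField R) (CotangentSpace R) = n) (t : Fin n → R)
    (ht : Ideal.span (Set.range t) = maximalIdeal R) (a : Fin n → k)
    (h : ∑ i, σ (a i) * t i ∈ maximalIdeal R ^ 2) : a = 0 := by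
  have hmem : ∀ l, t l ∈ maximalIdeal R := fun l => ht.le (Ideal.subset_span ⟨l, rfl⟩)
  let v : Fin n → maximalIdeal R := fun l => ⟨t l, hmem l⟩
  have hv : Submodule.span R (Set.range v) = ⊤ := by
    apply Submodule.map_injective_of_injective (maximalIdeal R).injective_subtype
    rw [Submodule.map_span, Submodule.map_top, Submodule.range_subtype, ← Set.range_comp]
    exact ht
  have h1 : Submodule.span (ResidueField R) ((maximalIdeal R).toCotangent '' Set.range v) = ⊤ :=
    (CotangentSpace.span_image_eq_top_iff).mpr hv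
  rw [← Set.range_comp] at h1
  have h2 : LinearIndependent (ResidueField R) ((maximalIdeal R).toCotangent ∘ v) :=
    linearIndependent_of_top_le_span_of_card_eq_finrank h1.ge (by rw [hn, Fintype.card_fin])
  have h3 : ∑ i, residue R (σ (a i)) • ((maximalIdeal R).toCotangent ∘ v) i = 0 := by
    have h4 : (∑ i, residue R (σ (a i)) • ((maximalIdeal R).toCotangent ∘ v) i) =
        (maximalIdeal R).toCotangent ⟨∑ i, σ (a i) * t i, Ideal.sum_mem _ fun i _ ↦ Ideal.mul_mem_left _ _ (hmem i)⟩ := by
      have h5 : (⟨∑ i, σ (a i) * t i, Ideal.sum_mem _ fun i _ ↦ Ideal.mul_mem_left _ _ (hmem i)⟩ : maximalIdeal R) =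
          ∑ i, σ (a i) • v i := by
        ext
        simp [v]
      rw [h5, map_sum]
      refine Finset.sum_congr rfl fun i _ ↦ ?_
      rw [map_smul]
      rfl
    rw [h4, Ideal.toCotangent_eq_zero]
    exact h
  have h6 := Fintype.linearIndependent_iff.1 h2 _ h3
  funext i
  have h7 := h6 i
  rw [← RingHom.comp_apply] at h7
  exact (map_eq_zero _).1 h7

end Pure

variable {k : Type u} [Field k] [IsAlgClosed k] {r d : ℕ} {X : Scheme.{u}} (i : X ⟶ CohB1.ProjSpace r k)

omit [IsAlgClosed k] in
theorem isClosed_secι_apply (s : Set (Form r k d)) (y : Sec i s) (hy : IsClosed ({y} : Set (Sec i s))) :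
    IsClosed ({secι i s y} : Set X) := by
  have := (secι i s).isClosedEmbedding.isClosedMap _ hy
  rwa [Set.image_singleton] at this

/-- Formal smoothness of the stalks at closed points. -/
theorem formallySmooth (g : X ⟶ Spec (CommRingCat.of k)) (n : ℕ) [SmoothOfRelativeDimension n g] (x : X)
    (hx : IsClosed ({x} : Set X)) : letI := salg g x; Algebra.FormallySmooth k (X.presheaf.stalk x) := by
  have : Smooth g := SmoothOfRelativeDimension.smooth n g
  have : LocallyOfFiniteType g := inferInstance
  obtain ⟨U, hU, hxU, -, hst⟩ := exists_chart g n x ⊤ trivial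
  exact formallySmooth_stalk n hU hst hx hxU

omit [IsAlgClosed k] in
theorem nonSing_iff_singFree {n : ℕ} (P : MvPolynomial (Fin n) k) : NonSing P ↔ SingFree P := by
  refine forall_congr' fun v ↦ imp_congr_right fun _ ↦ ?_
  by_cases h : MvPolynomial.eval v P = 0
  · simp [h]
  · simp [h]

/-- At an ordinary quadratic singularity of a hyperplane section, the second-order expansion of the equation in terms of
any parameters has a non-degenerate quadratic part. -/
theorem nonSing_of_isOrdQuadSing (m : ℕ)
    [SmoothOfRelativeDimension (m + 1) (i ≫ CohB1.ProjSpace.toSpec r k)] (H : Form r k d)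
    (y : Sec i ({H} : Set (Form r k d))) (hs : IsOrdQuadSing k m (secToSpec i ({H} : Set (Form r k d))) y)
    (j : Fin (r + 1)) (hj : i (secι i ({H} : Set (Form r k d)) y) ∈ LefPen.chart r k j)
    (t : Fin (m + 1) → X.presheaf.stalk (secι i ({H} : Set (Form r k d)) y))
    (ht : Ideal.span (Set.range t) = maximalIdeal (X.presheaf.stalk (secι i ({H} : Set (Form r k d)) y))) :
    stalkEqn i j _ hj H ∈ maximalIdeal (X.presheaf.stalk (secι i ({H} : Set (Form r k d)) y)) ^ 2 ∧
    (∃ P : MvPolynomial (Fin (m + 1)) k, P.IsHomogeneous 2 ∧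
      stalkEqn i j _ hj H - MvPolynomial.eval₂Hom
        (toStalk k (i ≫ CohB1.ProjSpace.toSpec r k) (secι i ({H} : Set (Form r k d)) y)) t P ∈
        maximalIdeal (X.presheaf.stalk (secι i ({H} : Set (Form r k d)) y)) ^ 3) ∧
    ∀ P : MvPolynomial (Fin (m + 1)) k, P.IsHomogeneous 2 →
      stalkEqn i j _ hj H - MvPolynomial.eval₂Hom
        (toStalk k (i ≫ CohB1.ProjSpace.toSpec r k) (secι i ({H} : Set (Form r k d)) y)) t P ∈
        maximalIdeal (X.presheaf.stalk (secι i ({H} : Set (Form r k d)) y)) ^ 3 → P ≠ 0 ∧ NonSing P := by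
  have hsm : Smooth (i ≫ CohB1.ProjSpace.toSpec r k) := SmoothOfRelativeDimension.smooth (m + 1) _
  have hlft : LocallyOfFiniteType (i ≫ CohB1.ProjSpace.toSpec r k) := inferInstance
  obtain ⟨hcl, Q, Q₂, e, he, hQ, hQ₂, hnd⟩ := hs
  have hclx : IsClosed ({secι i ({H} : Set (Form r k d)) y} : Set X) := isClosed_secι_apply i _ y hcl
  let := salg (i ≫ CohB1.ProjSpace.toSpec r k) (secι i ({H} : Set (Form r k d)) y)
  have hfs : Algebra.FormallySmooth k (X.presheaf.stalk (secι i ({H} : Set (Form r k d)) y)) :=
    formallySmooth (i ≫ CohB1.ProjSpace.toSpec r k) (m + 1) (secι i ({H} : Set (Form r k d)) y) hclx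
  have hreg := isRegularLocalRing_stalk (i ≫ CohB1.ProjSpace.toSpec r k) (secι i ({H} : Set (Form r k d)) y)
  have : Infinite k := IsAlgClosed.instInfinite
  have : IsNoetherianRing ((Sec i ({H} : Set (Form r k d))).presheaf.stalk y) :=
    isNoetherianRing_of_surjective _ _ ((secι i ({H} : Set (Form r k d))).stalkMap y).hom
      (stalkMap_secι_surjective i _ y)
  rw [H703.NondegQuadCrit.nondegQuad_iff, ← nonSing_iff_singFree] at hnd
  exact nonsing_of_presentation (exists_sub_toStalk_mem (i ≫ CohB1.ProjSpace.toSpec r k) (secι i ({H} : Set (Form r k d)) y) hclx) t ht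
    (lin_of_span (toStalk k (i ≫ CohB1.ProjSpace.toSpec r k) (secι i ({H} : Set (Form r k d)) y))
      (finrank_cotangentSpace_stalk (i ≫ CohB1.ProjSpace.toSpec r k) (m + 1) (secι i ({H} : Set (Form r k d)) y) hclx) t ht)
    ((secι i ({H} : Set (Form r k d))).stalkMap y).hom (stalkMap_secι_surjective i _ y) (stalkEqn i j _ hj H)
    (by rw [ker_stalkMap_secι i _ y j hj, Set.image_singleton]) Q Q₂ e
    (fun c ↦ by
      rw [← he c, ← toStalk_sec i ({H} : Set (Form r k d)) y c]
      rfl) hQ hQ₂ hnd.1 hnd.2

end Groth.Agent.Lefpen.H707.D2Converse
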