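import Groth.Agent.Lefpen.H707.Expand
import Mathlib.RingTheory.Smooth.StandardSmoothCotangent
import Mathlib.RingTheory.RingHom.StandardSmooth

/-!
# Coordinates of standard smooth algebras
-/

set_option autoImplicit false

open scoped TensorProduct

namespace Groth.Agent.Lefpen.H707.CoordsSmooth

open Expand

variable {k A : Type*} [CommRing k] [CommRing A] [Algebra k A] {n : ℕ}

/-- Coordinates from a basis of the differentials consisting of exact differentials. -/
noncomputable def coordsOfBasis (T : Fin n → A) (b : Module.Basis (Fin n) A (Ω[A⁄k]))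
    (hb : ∀ i, b i = KaehlerDifferential.D k A (T i)) : Coords k A n where
  T := T
  d i := (b.coord i).compDer (KaehlerDifferential.D k A)
  d_T i j := by
    change b.coord i (KaehlerDifferential.D k A (T j)) = _
    rw [← hb, b.coord_apply, b.repr_self, Finsupp.single_apply]
    simp only [eq_comm]
  D_eq a := by
    conv_lhs => rw [← b.sum_repr (KaehlerDifferential.D k A a)]
    refine Finset.sum_congr rfl fun i _ ↦ ?_
    rw [hb]
    rfl

/-- A standard smooth algebra of relative dimension `n` has `n` coordinates. -/
theorem exists_coords (h : Algebra.IsStandardSmoothOfRelativeDimension n k A) : Nonempty (Coords k A n) := by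
  obtain ⟨ι, σ, hσ, hι, P, hP⟩ := h.out
  classical
  have := Fintype.ofFinite ι
  have := Fintype.ofFinite σ
  have hcard : Fintype.card ((Set.range P.map)ᶜ : Set ι) = n := by
    rw [Fintype.card_compl_set, ← hP, Algebra.Presentation.dimension, Nat.card_eq_fintype_card,
      Nat.card_eq_fintype_card, Set.card_range_of_injective P.map_inj]
  let e : ((Set.range P.map)ᶜ : Set ι) ≃ Fin n := Fintype.equivFinOfCardEq hcard
  exact ⟨coordsOfBasis (fun i ↦ P.val (e.symm i)) (P.basisKaehler.reindex e) (fun i ↦ by simp)⟩

end Groth.Agent.Lefpen.H707.CoordsSmooth
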