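import Groth.Agent.Lefpen.H707.Cotan
import Mathlib.RingTheory.Smooth.Basic
import Mathlib.RingTheory.Ideal.Quotient.PowTransition

/-!
# Formally smooth algebras at a rational point: the parameters are independent

`eq_zero_of_aeval_mem_pow`: let `A` be a formally smooth `k`-algebra, `m` an ideal with `A = k + m`, generated by `t_i`
which are linearly independent modulo `m²`.  If `P` is homogeneous of degree `N ≥ 1` and `P(t) ∈ m^(N+1)` then `P = 0`.
-/

set_option autoImplicit false

open MvPolynomial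

namespace Groth.Agent.Lefpen.H707.Regular

variable {k A : Type*} [Field k] [CommRing A] [Algebra k A]

theorem homogeneous_eq_zero {σ : Type*} {N : ℕ} {P : MvPolynomial σ k} (hP : P.IsHomogeneous N)
    (h : P ∈ idealOfVars σ k ^ (N + 1)) : P = 0 := by
  rw [mem_pow_idealOfVars_iff'] at h
  ext e
  by_cases he : e.degree = N
  · rw [h e (by omega), coeff_zero]
  · rw [hP.coeff_eq_zero he, coeff_zero]

theorem exists_eq_single {σ : Type*} (e : σ →₀ ℕ) (he : e.degree = 1) : ∃ l, e = Finsupp.single l 1 := by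
  classical
  have he0 : e ≠ 0 := by
    rintro rfl
    simp at he
  obtain ⟨l, hl⟩ := Finsupp.ne_iff.1 he0
  rw [Finsupp.coe_zero, Pi.zero_apply] at hl
  have h1 : Finsupp.single l 1 ≤ e := by
    rw [Finsupp.single_le_iff]
    omega
  obtain ⟨c, rfl⟩ := exists_add_of_le h1
  rw [map_add, Finsupp.degree_single] at he
  have hc : c = 0 := by
    rw [← Finsupp.degree_eq_zero_iff]
    omega
  exact ⟨l, by rw [hc, add_zero]⟩

theorem eq_zero_of_aeval_mem_pow [Algebra.FormallySmooth k A] (m : Ideal A)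
    (hm : ∀ a : A, ∃ c : k, a - algebraMap k A c ∈ m) (hm1 : m ≠ ⊤) {n : ℕ} (t : Fin n → A)
    (ht : Ideal.span (Set.range t) = m)
    (hlin : ∀ a : Fin n → k, ∑ i, algebraMap k A (a i) * t i ∈ m ^ 2 → a = 0)
    {N : ℕ} (hN : 1 ≤ N) {P : MvPolynomial (Fin n) k} (hP : P.IsHomogeneous N)
    (h : aeval t P ∈ m ^ (N + 1)) : P = 0 := by
  classical
  let T : Ideal (MvPolynomial (Fin n) k) := idealOfVars (Fin n) k
  have htm : ∀ j, t j ∈ m := fun j ↦ by rw [← ht]; exact Ideal.subset_span ⟨j, rfl⟩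
  -- the isomorphism `k[T]/(T)² ≃ A/m²`
  let e₀ : MvPolynomial (Fin n) k →ₐ[k] A ⧸ m ^ 2 := (Ideal.Quotient.mkₐ k (m ^ 2)).comp (aeval t)
  have hsurj : Function.Surjective e₀ := by
    intro y
    obtain ⟨a, rfl⟩ := Ideal.Quotient.mk_surjective y
    obtain ⟨c, hc⟩ := hm a
    have h1 : ∀ x ∈ m, ∃ b : Fin n → k, x - ∑ j, algebraMap k A (b j) * t j ∈ m ^ 2 := by
      intro x hx
      rw [← ht, Ideal.mem_span_range_iff_exists_fun] at hx
      obtain ⟨c, hc⟩ := hx
      choose b hb using fun j ↦ hm (c j)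
      refine ⟨b, ?_⟩
      rw [← hc, ← Finset.sum_sub_distrib]
      refine sum_mem fun j _ ↦ ?_
      rw [← sub_mul, pow_two]
      exact Ideal.mul_mem_mul (hb j) (htm j)
    obtain ⟨b, hb⟩ := h1 _ hc
    refine ⟨C c + ∑ j, C (b j) * X j, ?_⟩
    change Ideal.Quotient.mk (m ^ 2) (aeval t (C c + ∑ j, C (b j) * X j)) = Ideal.Quotient.mk (m ^ 2) a
    rw [eq_comm, Ideal.Quotient.eq]
    rw [map_add, map_sum]
    simp only [map_mul, aeval_X, algHom_C]
    rwa [← sub_sub]
  have hker : RingHom.ker e₀ = T ^ 2 := by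
    apply le_antisymm
    · intro F hF
      have hF' : aeval t F ∈ m ^ 2 := Ideal.Quotient.eq_zero_iff_mem.1 hF
      -- constant term
      have h2 : ∀ G : MvPolynomial (Fin n) k, G ∈ T → aeval t G ∈ m := by
        intro G hG
        have := Cotan.eval₂_mem_pow (algebraMap k A) m htm 1 (P := G) (by rwa [pow_one])
        rw [pow_one] at this
        exact this
      have h3 : F - C (constantCoeff F) ∈ T := by
        have := (mem_pow_idealOfVars_iff' (σ := Fin n) (R := k) 1 (F - C (constantCoeff F))).2 (by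
          intro e he
          have : e = 0 := by rw [← Finsupp.degree_eq_zero_iff]; omega
          subst this
          simp [constantCoeff_eq])
        rwa [pow_one] at this
      have h4 : constantCoeff F = 0 := by
        by_contra hne
        have h5 := sub_mem (Ideal.pow_le_self two_ne_zero hF') (h2 _ h3)
        rw [map_sub, sub_sub_cancel, algHom_C] at h5
        exact hm1 (Ideal.eq_top_of_isUnit_mem _ h5 ((IsUnit.mk0 _ hne).map (algebraMap k A)))
      rw [h4, C_0, sub_zero] at h3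
      -- linear term
      have h5 : F ∈ T := h3
      have h6 : F - ∑ j, C (coeff (Finsupp.single j 1) F) * X j ∈ T ^ 2 := by
        rw [mem_pow_idealOfVars_iff']
        intro e he
        rw [coeff_sub, coeff_sum]
        by_cases he0 : e = 0
        · subst he0
          rw [← constantCoeff_eq, h4, zero_sub, neg_eq_zero]
          refine Finset.sum_eq_zero fun j _ ↦ ?_
          simp
        · have he1 : e.degree = 1 := by
            have : e.degree ≠ 0 := fun h7 ↦ he0 ((Finsupp.degree_eq_zero_iff e).1 h7)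
            omega
          obtain ⟨l, rfl⟩ : ∃ l, e = Finsupp.single l 1 := exists_eq_single e he1
          rw [Finset.sum_eq_single l]
          · rw [coeff_C_mul, coeff_X, if_pos rfl, mul_one, sub_self]
          · intro j _ hj
            rw [coeff_C_mul, coeff_X, if_neg, mul_zero]
            intro h7
            exact hj (Finsupp.single_left_injective one_ne_zero h7)
          · intro h7
            exact absurd (Finset.mem_univ _) h7
      have h7 : aeval t (F - ∑ j, C (coeff (Finsupp.single j 1) F) * X j) ∈ m ^ 2 :=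
        Cotan.eval₂_mem_pow (algebraMap k A) m htm 2 h6
      have h8 := sub_mem hF' h7
      rw [map_sub, sub_sub_cancel, map_sum] at h8
      simp only [map_mul, aeval_X, algHom_C] at h8
      have h9 := hlin _ h8
      have h10 : ∀ j, coeff (Finsupp.single j 1) F = 0 := fun j ↦ congrFun h9 j
      simpa [h10] using h6
    · intro F hF
      exact Ideal.Quotient.eq_zero_iff_mem.2 (Cotan.eval₂_mem_pow (algebraMap k A) m htm 2 hF)
  let e : (MvPolynomial (Fin n) k ⧸ T ^ 2) ≃ₐ[k] A ⧸ m ^ 2 :=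
    (Ideal.quotientEquivAlgOfEq k hker.symm).trans (Ideal.quotientKerAlgEquivOfSurjective hsurj)
  have he : ∀ F, e (Ideal.Quotient.mk (T ^ 2) F) = Ideal.Quotient.mk (m ^ 2) (aeval t F) := fun F ↦ rfl
  let f : A →ₐ[k] MvPolynomial (Fin n) k ⧸ T ^ 2 := (e.symm : _ →ₐ[k] _).comp (Ideal.Quotient.mkₐ k (m ^ 2))
  have hf : ∀ F, f (aeval t F) = Ideal.Quotient.mk (T ^ 2) F := by
    intro F
    change e.symm (Ideal.Quotient.mk (m ^ 2) (aeval t F)) = _
    rw [← he, e.symm_apply_apply]
  have hle : T ^ (N + 1) ≤ T ^ 2 := Ideal.pow_le_pow_right (by omega)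
  let g : (MvPolynomial (Fin n) k ⧸ T ^ (N + 1)) →ₐ[k] MvPolynomial (Fin n) k ⧸ T ^ 2 :=
    Ideal.Quotient.factorₐ k hle
  have hg : Function.Surjective g := Ideal.Quotient.factor_surjective hle
  let J : Ideal (MvPolynomial (Fin n) k ⧸ T ^ (N + 1)) := T.map (Ideal.Quotient.mk (T ^ (N + 1)))
  have hJN : J ^ (N + 1) = ⊥ := by
    rw [← Ideal.map_pow]
    exact Ideal.map_quotient_self _
  have hgker : RingHom.ker (g : (MvPolynomial (Fin n) k ⧸ T ^ (N + 1)) →+* MvPolynomial (Fin n) k ⧸ T ^ 2) = J ^ 2 := by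
    rw [← Ideal.map_pow]
    exact Ideal.Quotient.factor_ker hle
  have hnil : IsNilpotent (RingHom.ker (g : (MvPolynomial (Fin n) k ⧸ T ^ (N + 1)) →+* MvPolynomial (Fin n) k ⧸ T ^ 2)) := by
    refine ⟨N + 1, ?_⟩
    have h1 : (J ^ 2) ^ (N + 1) = ⊥ := by
      rw [← pow_mul, mul_comm, pow_mul, hJN]
      exact le_bot_iff.1 (Ideal.pow_le_self two_ne_zero)
    rw [hgker, h1]
    rfl
  let ψ : A →ₐ[k] MvPolynomial (Fin n) k ⧸ T ^ (N + 1) := Algebra.FormallySmooth.liftOfSurjective f g hg hnil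
  have hψ : ∀ x, g (ψ x) = f x := fun x ↦ Algebra.FormallySmooth.liftOfSurjective_apply f g hg hnil x
  have hψt : ∀ j, ψ (t j) - Ideal.Quotient.mk _ (X j) ∈ J ^ 2 := by
    intro j
    rw [← hgker, RingHom.mem_ker]
    change g (ψ (t j) - Ideal.Quotient.mk _ (X j)) = 0
    rw [map_sub, hψ]
    have h1 : f (t j) = Ideal.Quotient.mk (T ^ 2) (X j) := by
      rw [← hf, aeval_X]
    rw [h1, sub_eq_zero]
    rfl
  have hXJ : ∀ j : Fin n, Ideal.Quotient.mk (T ^ (N + 1)) (X j) ∈ J := fun j ↦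
    Ideal.mem_map_of_mem _ (Ideal.subset_span ⟨j, rfl⟩)
  have hψJ : ∀ j, ψ (t j) ∈ J := fun j ↦ by
    have := add_mem (Ideal.pow_le_self two_ne_zero (hψt j)) (hXJ j)
    rwa [sub_add_cancel] at this
  have hmJ : m ≤ J.comap (ψ : A →+* _) := by
    rw [← ht, Ideal.span_le]
    rintro _ ⟨j, rfl⟩
    exact hψJ j
  have h1 : ψ (aeval t P) = 0 := by
    have h2 := (Ideal.pow_right_mono hmJ (N + 1)).trans (Ideal.le_comap_pow _ (N + 1)) h
    rw [hJN] at h2
    exact h2
  have h2 : ψ (aeval t P) = eval₂ (algebraMap k _) (fun j ↦ ψ (t j)) P := by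
    rw [← aeval_def, ← comp_aeval_apply]
  have h3 : Ideal.Quotient.mk (T ^ (N + 1)) P =
      eval₂ (algebraMap k _) (fun j ↦ Ideal.Quotient.mk (T ^ (N + 1)) (X j)) P := by
    have h4 : (Ideal.Quotient.mkₐ k (T ^ (N + 1))) = aeval (fun j ↦ Ideal.Quotient.mk (T ^ (N + 1)) (X j)) := by
      apply MvPolynomial.algHom_ext
      intro j
      rw [aeval_X]
      rfl
    exact DFunLike.congr_fun h4 P
  have h4 := Cotan.eval₂_sub_mem_pow (algebraMap k _) J hψJ hψt N (Cotan.mem_pow_of_isHomogeneous hP)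
  rw [hJN, ← h2, h1, ← h3, zero_sub] at h4
  have h5 : Ideal.Quotient.mk (T ^ (N + 1)) P = 0 := by
    simpa using h4
  exact homogeneous_eq_zero hP (Ideal.Quotient.eq_zero_iff_mem.1 h5)

end Groth.Agent.Lefpen.H707.Regular
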