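import Groth.Agent.Lefpen.H707.Params
import Groth.Agent.Lefpen.H707.Regular
import Groth.Agent.Lefpen.H702.Generic

/-!
# The leading quadratic form of an ordinary quadratic singularity is non-degenerate

`nonsing_of_presentation`: `R` a local `k`-algebra, formally smooth with residue field `k`, with parameters `t`,
`S = R/(h)` with completion `k[[T]]/(Q)`, `Q` of order two with quadratic part `Q₂` having no singular point.
Then every quadratic form `P` with `h - P(t) ∈ 𝔪³` has no singular point; and such a form exists.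
-/

set_option autoImplicit false

universe u

open IsLocalRing MvPolynomial

namespace Groth.Agent.Lefpen.H707.Leading

/-- A polynomial without singular zero off the origin (a non-degenerate quadratic form, if it is one). -/
def NonSing {k : Type*} [CommRing k] {n : ℕ} (P : MvPolynomial (Fin n) k) : Prop :=
  ∀ v : Fin n → k, v ≠ 0 → eval v P = 0 → ∃ l, eval v (pderiv l P) ≠ 0

section Linear

variable {k : Type*} [Field k] {n : ℕ}

/-- The linear substitution. -/
noncomputable def subst (M : Matrix (Fin n) (Fin n) k) (Q : MvPolynomial (Fin n) k) : MvPolynomial (Fin n) k :=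
  aeval (fun i ↦ ∑ j, C (M i j) * X j) Q

theorem eval_subst (M : Matrix (Fin n) (Fin n) k) (Q : MvPolynomial (Fin n) k) (v : Fin n → k) :
    eval v (subst M Q) = eval (M.mulVec v) Q := by
  have h : ∀ F : MvPolynomial (Fin n) k, eval v F = aeval v F := fun F ↦ (aeval_eq_eval v ▸ rfl)
  rw [h, subst, comp_aeval_apply, aeval_eq_eval]
  congr 2
  funext i
  simp [Matrix.mulVec, dotProduct]

theorem aeval_subst {A : Type*} [CommRing A] [Algebra k A] (M : Matrix (Fin n) (Fin n) k)
    (Q : MvPolynomial (Fin n) k) (t : Fin n → A) :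
    aeval t (subst M Q) = aeval (fun i ↦ ∑ j, algebraMap k A (M i j) * t j) Q := by
  rw [subst, comp_aeval_apply]
  congr 2
  funext i
  simp

theorem subst_isHomogeneous (M : Matrix (Fin n) (Fin n) k) {Q : MvPolynomial (Fin n) k} {N : ℕ}
    (hQ : Q.IsHomogeneous N) : (subst M Q).IsHomogeneous N := by
  have h1 := hQ.aeval (fun i ↦ ∑ j, C (M i j) * X j) (fun i ↦ by
    refine IsHomogeneous.sum _ _ 1 fun j _ ↦ ?_
    have := (isHomogeneous_C (Fin n) (M i j)).mul (isHomogeneous_X k j)
    rwa [zero_add] at this) (n := 1)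
  rwa [one_mul] at h1

theorem eval_pderiv_subst (M : Matrix (Fin n) (Fin n) k) (Q : MvPolynomial (Fin n) k) (l : Fin n)
    (v : Fin n → k) :
    eval v (pderiv l (subst M Q)) = ∑ i, M i l * eval (M.mulVec v) (pderiv i Q) := by
  rw [subst, Groth.Agent.Lefpen.H702.Generic.derivation_aeval, map_sum]
  refine Finset.sum_congr rfl fun i _ ↦ ?_
  rw [map_mul]
  have h1 := eval_subst M (pderiv i Q) v
  rw [subst] at h1
  rw [h1, mul_comm]
  congr 1
  rw [map_sum, map_sum, Finset.sum_eq_single l]
  · simp [pderiv_X]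
  · intro j _ hj
    rw [pderiv_C_mul, pderiv_X_of_ne hj, mul_zero, map_zero]
  · intro h; exact absurd (Finset.mem_univ _) h

/-- Invariance of non-degeneracy under linear substitutions and nonzero scalars. -/
theorem nonSing_of_subst_eq {M : Matrix (Fin n) (Fin n) k} (hM : IsUnit M) {g : k} {P Q : MvPolynomial (Fin n) k}
    (h : subst M Q = C g * P) (hQ : NonSing Q) : NonSing P := by
  intro v hv hP
  by_contra! hcon
  have h1 : M.mulVec v ≠ 0 := by
    intro h0
    apply hv
    have h2 := (Matrix.mulVec_injective_iff_isUnit.2 hM)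
    apply h2
    rw [h0, Matrix.mulVec_zero]
  have h2 : eval (M.mulVec v) Q = 0 := by
    rw [← eval_subst, h, map_mul, hP, mul_zero]
  obtain ⟨i, hi⟩ := hQ _ h1 h2
  have h3 : Matrix.vecMul (fun i ↦ eval (M.mulVec v) (pderiv i Q)) M = 0 := by
    funext l
    have h4 := eval_pderiv_subst M Q l v
    rw [h, pderiv_C_mul, map_mul, hcon l, mul_zero] at h4
    simp only [Matrix.vecMul, dotProduct, Pi.zero_apply]
    rw [h4]
    exact Finset.sum_congr rfl fun i _ ↦ mul_comm _ _
  have h4 : (fun i ↦ eval (M.mulVec v) (pderiv i Q)) = 0 := by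
    apply Matrix.vecMul_injective_iff_isUnit.2 hM
    change Matrix.vecMul _ M = Matrix.vecMul _ M
    rw [h3, Matrix.zero_vecMul]
  exact hi (congrFun h4 i)

theorem subst_injective {M : Matrix (Fin n) (Fin n) k} (hM : IsUnit M) {Q : MvPolynomial (Fin n) k}
    (h : subst M Q = 0) : Q = 0 := by
  obtain ⟨N, hN⟩ := hM.exists_right_inv
  have h1 : subst N (subst M Q) = Q := by
    rw [subst, aeval_subst]
    have h2 : (fun i ↦ ∑ j, algebraMap k (MvPolynomial (Fin n) k) (M i j) * ∑ l, C (N j l) * X l) =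
        (X : Fin n → MvPolynomial (Fin n) k) := by
      funext i
      have h3 : ∀ l, ∑ j, M i j * N j l = (1 : Matrix (Fin n) (Fin n) k) i l := fun l ↦ by
        rw [← hN, Matrix.mul_apply]
      simp only [algebraMap_eq, Finset.mul_sum, ← mul_assoc, ← C_mul]
      rw [Finset.sum_comm]
      simp only [← Finset.sum_mul, ← map_sum, h3]
      rw [Finset.sum_eq_single i]
      · simp
      · intro b _ hb
        rw [Matrix.one_apply_ne (Ne.symm hb), C_0, zero_mul]
      · intro h; exact absurd (Finset.mem_univ _) h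
    rw [h2, aeval_X_left_apply]
  rw [← h1, h, subst, map_zero]

end Linear

variable {k : Type u} [Field k] {R S : Type u} [CommRing R] [IsLocalRing R] [CommRing S] [IsLocalRing S]
  [IsNoetherianRing S] [Algebra k R] [Algebra.FormallySmooth k R]

theorem exists_matrix_of_presentation (hres : ∀ r : R, ∃ c : k, r - algebraMap k R c ∈ maximalIdeal R)
    {m : ℕ} (t : Fin (m + 1) → R) (ht : Ideal.span (Set.range t) = maximalIdeal R)
    (hlin : ∀ a : Fin (m + 1) → k, ∑ i, algebraMap k R (a i) * t i ∈ maximalIdeal R ^ 2 → a = 0)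
    (q : R →+* S) (hq : Function.Surjective q) (h : R) (hker : RingHom.ker q = Ideal.span {h})
    (Q : MvPowerSeries (Fin (m + 1)) k) (Q₂ : LefPen.Form m k 2)
    (e : AdicCompletion (maximalIdeal S) S ≃+* (MvPowerSeries (Fin (m + 1)) k ⧸ Ideal.span {Q}))
    (he : ∀ c : k, e (algebraMap S _ (q (algebraMap k R c))) = Ideal.Quotient.mk _ (MvPowerSeries.C c))
    (hQ : LefPen.StartsInDegTwo k Q) (hQ₂ : LefPen.IsQuadPart k Q Q₂) (hne : Q₂.1 ≠ 0) :
    h ∈ maximalIdeal R ^ 2 ∧ ∃ (M : Matrix (Fin (m + 1)) (Fin (m + 1)) k) (g : k), IsUnit M ∧ g ≠ 0 ∧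
      aeval t (subst M Q₂.1) - algebraMap k R g * h ∈ maximalIdeal R ^ 3 := by
  obtain ⟨s, hs, hsl, hsq⟩ := Params.exists_params (q.comp (algebraMap k R)) Q Q₂ e he hQ hQ₂
  have hQh : Q₂.1.IsHomogeneous 2 := (MvPolynomial.mem_homogeneousSubmodule 2 _).1 Q₂.2
  obtain ⟨h1, M, g, hM, hg⟩ := Cotan.exists_matrix (algebraMap k R) hres t ht q hq h hker s hs hsl Q₂.1 hQh hsq
  refine ⟨h1, M, g, hM, ?_, ?_⟩
  · rintro rfl
    rw [map_zero, zero_mul, sub_zero] at hg
    have h2 : subst M Q₂.1 = 0 := by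
      refine Regular.eq_zero_of_aeval_mem_pow (maximalIdeal R) hres (maximalIdeal.isMaximal R).ne_top t ht hlin
        (N := 2) one_le_two (subst_isHomogeneous M hQh) ?_
      rw [aeval_subst]
      exact hg
    exact hne (subst_injective hM h2)
  · rw [aeval_subst]
    exact hg

/-- Converse part of the local criterion for ordinary quadratic singularities. -/
theorem nonsing_of_presentation (hres : ∀ r : R, ∃ c : k, r - algebraMap k R c ∈ maximalIdeal R)
    {m : ℕ} (t : Fin (m + 1) → R) (ht : Ideal.span (Set.range t) = maximalIdeal R)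
    (hlin : ∀ a : Fin (m + 1) → k, ∑ i, algebraMap k R (a i) * t i ∈ maximalIdeal R ^ 2 → a = 0)
    (q : R →+* S) (hq : Function.Surjective q) (h : R) (hker : RingHom.ker q = Ideal.span {h})
    (Q : MvPowerSeries (Fin (m + 1)) k) (Q₂ : LefPen.Form m k 2)
    (e : AdicCompletion (maximalIdeal S) S ≃+* (MvPowerSeries (Fin (m + 1)) k ⧸ Ideal.span {Q}))
    (he : ∀ c : k, e (algebraMap S _ (q (algebraMap k R c))) = Ideal.Quotient.mk _ (MvPowerSeries.C c))
    (hQ : LefPen.StartsInDegTwo k Q) (hQ₂ : LefPen.IsQuadPart k Q Q₂) (hne : Q₂.1 ≠ 0)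
    (hns : NonSing Q₂.1) :
    h ∈ maximalIdeal R ^ 2 ∧
    (∃ P : MvPolynomial (Fin (m + 1)) k, P.IsHomogeneous 2 ∧ h - aeval t P ∈ maximalIdeal R ^ 3) ∧
    ∀ P : MvPolynomial (Fin (m + 1)) k, P.IsHomogeneous 2 → h - aeval t P ∈ maximalIdeal R ^ 3 →
      P ≠ 0 ∧ NonSing P := by
  obtain ⟨h1, M, g, hM, hg, hgh⟩ := exists_matrix_of_presentation hres t ht hlin q hq h hker Q Q₂ e he hQ hQ₂ hne
  have hQh : Q₂.1.IsHomogeneous 2 := (MvPolynomial.mem_homogeneousSubmodule 2 _).1 Q₂.2
  refine ⟨h1, ?_, ?_⟩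
  · refine ⟨C g⁻¹ * subst M Q₂.1, ?_, ?_⟩
    · have := (isHomogeneous_C (Fin (m + 1)) g⁻¹).mul (subst_isHomogeneous M hQh)
      rwa [zero_add] at this
    · have h2 : h - aeval t (C g⁻¹ * subst M Q₂.1) =
          -(algebraMap k R g⁻¹ * (aeval t (subst M Q₂.1) - algebraMap k R g * h)) := by
        rw [map_mul, algHom_C, mul_sub, ← mul_assoc, ← map_mul, inv_mul_cancel₀ hg, map_one]
        ring
      rw [h2]
      exact neg_mem (Ideal.mul_mem_left _ _ hgh)
  · intro P hP hPh
    have h2 : subst M Q₂.1 = C g * P := by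
      rw [← sub_eq_zero]
      refine Regular.eq_zero_of_aeval_mem_pow (maximalIdeal R) hres (maximalIdeal.isMaximal R).ne_top t ht hlin
        (N := 2) one_le_two ?_ ?_
      · refine IsHomogeneous.sub (subst_isHomogeneous M hQh) ?_
        have := (isHomogeneous_C (Fin (m + 1)) g).mul hP
        rwa [zero_add] at this
      · have h3 : aeval t (subst M Q₂.1 - C g * P) = (aeval t (subst M Q₂.1) - algebraMap k R g * h) +
            algebraMap k R g * (h - aeval t P) := by
          rw [map_sub, map_mul, algHom_C]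
          ring
        rw [h3]
        exact add_mem hgh (Ideal.mul_mem_left _ _ hPh)
    refine ⟨?_, nonSing_of_subst_eq hM h2 hns⟩
    rintro rfl
    rw [mul_zero] at h2
    exact hne (subst_injective hM h2)

end Groth.Agent.Lefpen.H707.Leading
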