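import Groth.Agent.Lefpen.H707.Isolate
import Groth.Agent.Lefpen.H702.LocAlg

/-!
# The local ring at a rational point of an algebra with coordinates
-/

set_option autoImplicit false

open MvPolynomial IsLocalRing

namespace Groth.Agent.Lefpen.H707.LocPt

open Expand NonSingIdeal Isolate

section Alg

variable {k : Type*} [Field k] {A : Type*} [CommRing A] [Algebra k A] {n : ℕ} (c : Coords k A n) (v : A →ₐ[k] k)

/-- The constant point. -/
noncomputable def cpt : A →ₐ[k] A := (Algebra.ofId k A).comp v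

theorem cpt_apply (a : A) : cpt v a = algebraMap k A (v a) := rfl

theorem diagIdeal_cpt : diagIdeal (cpt v) (AlgHom.id k A) = RingHom.ker v := by
  apply le_antisymm
  · rw [diagIdeal, Ideal.span_le]
    rintro _ ⟨a, rfl⟩
    rw [SetLike.mem_coe, RingHom.mem_ker, map_sub, cpt_apply, AlgHom.commutes]
    simp
  · intro a ha
    rw [RingHom.mem_ker] at ha
    have h1 := sub_mem_diagIdeal (cpt v) (AlgHom.id k A) a
    rwa [cpt_apply, ha, map_zero, sub_zero] at h1

/-- A derivation maps `I ^ (N + 1)` to `I ^ N`. -/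
theorem der_mem_pow (I : Ideal A) (d : Derivation k A A) (N : ℕ) {a : A} (ha : a ∈ I ^ (N + 1)) : d a ∈ I ^ N := by
  induction N generalizing a with
  | zero => simp
  | succ N ih =>
    rw [pow_succ] at ha
    refine Submodule.mul_induction_on ha ?_ ?_
    · intro z hz w hw
      rw [Derivation.leibniz, smul_eq_mul, smul_eq_mul]
      refine add_mem (Ideal.mul_mem_right _ _ hz) ?_
      rw [mul_comm, pow_succ]
      exact Ideal.mul_mem_mul (ih hz) hw
    · intro z w hz hw
      rw [map_add]
      exact add_mem hz hw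

theorem mem_ker_sq_iff (a : A) : a ∈ RingHom.ker v ^ 2 ↔ v a = 0 ∧ ∀ l, v (c.d l a) = 0 := by
  constructor
  · intro h
    refine ⟨Ideal.pow_le_self two_ne_zero h, fun l ↦ ?_⟩
    have h1 := der_mem_pow (RingHom.ker v) (c.d l) 1 h
    rwa [pow_one] at h1
  · rintro ⟨h1, h2⟩
    have h3 := first_order_points (cpt v) (AlgHom.id k A) c a
    rw [diagIdeal_cpt] at h3
    simp only [cpt_apply, h1, h2, map_zero, zero_mul, Finset.sum_const_zero, sub_zero, AlgHom.id_apply] at h3
    exact h3

instance isMaximal_ker : (RingHom.ker v).IsMaximal :=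
  RingHom.ker_isMaximal_of_surjective v (fun c ↦ ⟨algebraMap k A c, v.commutes c⟩)

theorem sum_mul_sum_map {α : Type*} [Fintype α] {β : Type*} [Fintype β] (e : α → k) (u : α → β → k) (w : β → A) :
    ∑ a, algebraMap k A (e a) * ∑ i, algebraMap k A (u a i) * w i = ∑ i, algebraMap k A (∑ a, e a * u a i) * w i := by
  simp only [Finset.mul_sum (s := Finset.univ (α := β))]
  rw [Finset.sum_comm]
  refine Finset.sum_congr rfl fun i _ ↦ ?_
  rw [map_sum, Finset.sum_mul]
  refine Finset.sum_congr rfl fun a _ ↦ ?_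
  rw [map_mul, mul_assoc]

theorem sum_mul_sub_sub_sub {α : Type*} [Fintype α] (E x y z w : α → A) :
    ∑ a, E a * (x a - y a - z a - w a) = ∑ a, E a * x a - ∑ a, E a * y a - ∑ a, E a * z a - ∑ a, E a * w a := by
  simp only [mul_sub, Finset.sum_sub_distrib]

end Alg

section Loc

variable {k : Type*} [Field k] {A : Type*} [CommRing A] [Algebra k A] {n : ℕ} (c : Coords k A n) (v : A →ₐ[k] k)
  (R : Type*) [CommRing R] [IsLocalRing R] [Algebra k R] [Algebra A R] [IsScalarTower k A R]
  [hloc : IsLocalization.AtPrime R (RingHom.ker v)]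

/-- The local coordinates at the point `v`. -/
noncomputable def loc (i : Fin n) : R := algebraMap A R (c.T i) - algebraMap k R (v (c.T i))

theorem loc_eq (i : Fin n) : loc c v R i = algebraMap A R (c.T i - cpt v (c.T i)) := by
  rw [loc, map_sub, cpt_apply, ← IsScalarTower.algebraMap_apply]

include hloc

theorem algebraMap_mem_pow_iff (N : ℕ) (a : A) :
    algebraMap A R a ∈ maximalIdeal R ^ N ↔ a ∈ RingHom.ker v ^ N := by
  rw [← Ideal.mem_comap, H702.LocAlg.comap_maximalIdeal_pow (RingHom.ker v) N]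

theorem span_loc [IsNoetherianRing R] : Ideal.span (Set.range (loc c v R)) = maximalIdeal R := by
  have h1 : Ideal.span (Set.range (loc c v R)) =
      (Ideal.span (Set.range fun i ↦ c.T i - cpt v (c.T i))).map (algebraMap A R) := by
    rw [Ideal.map_span, ← Set.range_comp]
    congr 2
    funext i
    exact loc_eq c v R i
  have h2 : (RingHom.ker v).map (algebraMap A R) = maximalIdeal R :=
    IsLocalization.AtPrime.map_eq_maximalIdeal (RingHom.ker v) R
  have h3 := diagIdeal_le (cpt v) (AlgHom.id k A) c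
  rw [diagIdeal_cpt] at h3
  have h4 : maximalIdeal R ≤ Ideal.span (Set.range (loc c v R)) ⊔ maximalIdeal R • maximalIdeal R := by
    rw [h1, smul_eq_mul, ← pow_two, ← h2, ← Ideal.map_pow, ← Ideal.map_sup]
    exact Ideal.map_mono h3
  apply le_antisymm
  · rw [h1, ← h2]
    refine Ideal.map_mono ?_
    rw [Ideal.span_le]
    rintro _ ⟨i, rfl⟩
    rw [← diagIdeal_cpt]
    exact sub_mem_diagIdeal (cpt v) (AlgHom.id k A) (c.T i)
  · exact Submodule.le_of_le_smul_of_le_jacobson_bot (IsNoetherian.noetherian _)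
      (IsLocalRing.maximalIdeal_le_jacobson _) h4

theorem loc_lin (a : Fin n → k) (h : ∑ i, algebraMap k R (a i) * loc c v R i ∈ maximalIdeal R ^ 2) : a = 0 := by
  have h1 : ∑ i, algebraMap k R (a i) * loc c v R i =
      algebraMap A R (∑ i, algebraMap k A (a i) * (c.T i - cpt v (c.T i))) := by
    rw [map_sum]
    refine Finset.sum_congr rfl fun i _ ↦ ?_
    rw [map_mul, loc_eq, ← IsScalarTower.algebraMap_apply]
  rw [h1, algebraMap_mem_pow_iff v R, mem_ker_sq_iff c v] at h
  funext l
  have h2 := h.2 l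
  rw [map_sum, map_sum, Finset.sum_eq_single l] at h2
  · rw [Derivation.leibniz, Derivation.map_algebraMap, smul_zero, add_zero, map_sub, cpt_apply,
      Derivation.map_algebraMap, sub_zero, c.d_T, if_pos rfl, smul_eq_mul, mul_one, AlgHom.commutes] at h2
    exact h2
  · intro i _ hi
    rw [Derivation.leibniz, Derivation.map_algebraMap, smul_zero, add_zero, map_sub, cpt_apply,
      Derivation.map_algebraMap, sub_zero, c.d_T, if_neg (Ne.symm hi), smul_zero, map_zero]
  · intro h; exact absurd (Finset.mem_univ l) h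

theorem algebraMap_mem_sq_iff (a : A) :
    algebraMap A R a ∈ maximalIdeal R ^ 2 ↔ v a = 0 ∧ ∀ l, v (c.d l a) = 0 := by
  rw [algebraMap_mem_pow_iff v R, mem_ker_sq_iff c v]

variable {α : Type*} [Fintype α] (h : α → A)

/-- Singularity of a member of the linear family in the local ring. -/
theorem singAt_iff (e : α → k) : SingAt c h v e ↔ algebraMap A R (∑ a, algebraMap k A (e a) * h a) ∈ maximalIdeal R ^ 2 := by
  rw [algebraMap_mem_sq_iff c v, SingAt]
  have h1 : v (∑ a, algebraMap k A (e a) * h a) = ∑ a, e a * v (h a) := by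
    rw [map_sum]
    refine Finset.sum_congr rfl fun a _ ↦ ?_
    rw [map_mul, AlgHom.commutes]
    rfl
  have h2 : ∀ l, v (c.d l (∑ a, algebraMap k A (e a) * h a)) = ∑ a, e a * v (c.d l (h a)) := by
    intro l
    rw [map_sum, map_sum]
    refine Finset.sum_congr rfl fun a _ ↦ ?_
    rw [Derivation.leibniz, Derivation.map_algebraMap, smul_zero, add_zero, smul_eq_mul, map_mul, AlgHom.commutes]
    rfl
  rw [h1]
  simp only [h2]

/-- The quadratic part of a singular member of the linear family. -/
theorem sub_aeval_quad_mem {b : α → Fin n → Fin n → A} (hb : IsHess c h b) (e : α → k) (hs : SingAt c h v e) :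
    algebraMap A R (∑ a, algebraMap k A (e a) * h a) - aeval (loc c v R) (quad fun i j ↦ ∑ a, e a * v (b a i j)) ∈
      maximalIdeal R ^ 3 := by
  have h1 : ∀ a, h a - algebraMap k A (v (h a)) - ∑ i, algebraMap k A (v (c.d i (h a))) * (c.T i - cpt v (c.T i)) -
      ∑ i, ∑ j, algebraMap k A (v (b a i j)) * ((c.T i - cpt v (c.T i)) * (c.T j - cpt v (c.T j))) ∈ RingHom.ker v ^ 3 := by
    intro a
    have h2 := second_order_points (cpt v) (AlgHom.id k A) c (h a) (hb a).1
    rw [diagIdeal_cpt] at h2
    exact h2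
  have h2 := (RingHom.ker v ^ 3).sum_mem (t := Finset.univ) fun a _ ↦
    Ideal.mul_mem_left (RingHom.ker v ^ 3) (algebraMap k A (e a)) (h1 a)
  have h3 : ∑ a, algebraMap k A (e a) * (h a - algebraMap k A (v (h a)) -
      ∑ i, algebraMap k A (v (c.d i (h a))) * (c.T i - cpt v (c.T i)) -
      ∑ i, ∑ j, algebraMap k A (v (b a i j)) * ((c.T i - cpt v (c.T i)) * (c.T j - cpt v (c.T j)))) =
      (∑ a, algebraMap k A (e a) * h a) - algebraMap k A (∑ a, e a * v (h a)) -
        (∑ i, algebraMap k A (∑ a, e a * v (c.d i (h a))) * (c.T i - cpt v (c.T i))) -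
        ∑ i, ∑ j, algebraMap k A (∑ a, e a * v (b a i j)) *
          ((c.T i - cpt v (c.T i)) * (c.T j - cpt v (c.T j))) := by
    have h5 := sum_mul_sum_map (k := k) (A := A) e (fun a i ↦ v (c.d i (h a))) (fun i ↦ c.T i - cpt v (c.T i))
    have h6 : ∑ a, algebraMap k A (e a) * ∑ i, ∑ j, algebraMap k A (v (b a i j)) *
        ((c.T i - cpt v (c.T i)) * (c.T j - cpt v (c.T j))) =
        ∑ i, ∑ j, algebraMap k A (∑ a, e a * v (b a i j)) * ((c.T i - cpt v (c.T i)) * (c.T j - cpt v (c.T j))) := by
      simp only [Finset.mul_sum (s := Finset.univ (α := Fin n))]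
      rw [Finset.sum_comm]
      refine Finset.sum_congr rfl fun i _ ↦ ?_
      rw [Finset.sum_comm]
      refine Finset.sum_congr rfl fun j _ ↦ ?_
      rw [map_sum, Finset.sum_mul]
      refine Finset.sum_congr rfl fun a _ ↦ ?_
      rw [map_mul, mul_assoc]
    rw [sum_mul_sub_sub_sub, h5, h6, map_sum]
    simp only [map_mul]
  rw [h3, hs.1, map_zero, sub_zero] at h2
  simp only [hs.2, map_zero, zero_mul, Finset.sum_const_zero, sub_zero] at h2
  rw [← algebraMap_mem_pow_iff v R, map_sub] at h2
  rw [aeval_quad]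
  simp only [loc_eq]
  have h4 : (∑ i, ∑ j, algebraMap k R (∑ a, e a * v (b a i j)) *
      (algebraMap A R (c.T i - cpt v (c.T i)) * algebraMap A R (c.T j - cpt v (c.T j)))) =
      algebraMap A R (∑ i, ∑ j, algebraMap k A (∑ a, e a * v (b a i j)) *
          ((c.T i - cpt v (c.T i)) * (c.T j - cpt v (c.T j)))) := by
    rw [map_sum]
    refine Finset.sum_congr rfl fun i _ ↦ ?_
    rw [map_sum]
    refine Finset.sum_congr rfl fun j _ ↦ ?_
    rw [map_mul, map_mul, ← IsScalarTower.algebraMap_apply]
  rw [h4]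
  exact h2

end Loc

end Groth.Agent.Lefpen.H707.LocPt
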