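import Groth.Agent.Lefpen.H707.PtEval
import Groth.Agent.Lefpen.H707.LocPt
import Groth.Agent.Lefpen.H707.CoordsSmooth
import Groth.Agent.Lefpen.H707.Leading

/-!
# Charts with coordinates on schemes smooth over an algebraically closed field
-/

set_option autoImplicit false
universe u

open CategoryTheory AlgebraicGeometry Limits TopologicalSpace Opposite

namespace Groth.Agent.Lefpen.H707.ChartData

open LefPen IsLocalRing Groth.Agent.Lefpen.H705.ClosedPoint Groth.Agent.Lefpen.H727.Compact
open Expand Isolate NonSingIdeal PtEval Leading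

variable {k : Type u} [Field k] {X : Scheme.{u}} (g : X ⟶ Spec (CommRingCat.of k))

/-- The `k`-algebra structure on the sections of a `k`-scheme. -/
noncomputable abbrev alg (U : X.Opens) : Algebra k Γ(X, U) := (cst g U).toAlgebra

/-- The `k`-algebra structure on the stalk of a `k`-scheme. -/
noncomputable abbrev salg (x : X) : Algebra k (X.presheaf.stalk x) := (toStalk k g x).toAlgebra

theorem cst_eq_appLE (U : X.Opens) :
    cst g U = (g.appLE ⊤ U le_top).hom.comp (Scheme.ΓSpecIso (CommRingCat.of k)).inv.hom := by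
  have h : cstHom g U = (Scheme.ΓSpecIso (CommRingCat.of k)).inv ≫ g.appLE ⊤ U le_top := by
    rw [cstHom, Scheme.Hom.appLE]
    rfl
  rw [cst, h]
  rfl

/-- Small charts, standard smooth over the base. -/
theorem exists_chart (n : ℕ) [SmoothOfRelativeDimension n g] (x : X) (O : X.Opens) (hx : x ∈ O) :
    ∃ U : X.Opens, IsAffineOpen U ∧ x ∈ U ∧ U ≤ O ∧ (cst g U).IsStandardSmoothOfRelativeDimension n := by
  obtain ⟨W, hW, V, hV, hxV, e, hst⟩ :=
    SmoothOfRelativeDimension.exists_isStandardSmoothOfRelativeDimension (n := n) (f := g) x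
  have hWtop : W = ⊤ := by
    rw [eq_top_iff]
    intro y _
    have : y = g x := Subsingleton.elim (α := PrimeSpectrum k) _ _
    rw [this]
    exact e hxV
  subst hWtop
  obtain ⟨s, hs, hxs⟩ := hV.exists_basicOpen_le (V := O) ⟨x, hx⟩ hxV
  refine ⟨X.basicOpen s, hV.basicOpen s, hxs, hs, ?_⟩
  have hloc := hV.isLocalization_basicOpen s
  have h0 : (algebraMap Γ(X, V) Γ(X, X.basicOpen s)).IsStandardSmoothOfRelativeDimension 0 :=
    RingHom.IsStandardSmoothOfRelativeDimension.algebraMap_isLocalizationAway s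
  have h1 : (Scheme.ΓSpecIso (CommRingCat.of k)).inv.hom.IsStandardSmoothOfRelativeDimension 0 :=
    RingHom.IsStandardSmoothOfRelativeDimension.equiv
      (Scheme.ΓSpecIso (CommRingCat.of k)).commRingCatIsoToRingEquiv.symm
  have h2 : cst g (X.basicOpen s) = (algebraMap Γ(X, V) Γ(X, X.basicOpen s)).comp ((g.appLE ⊤ V e).hom.comp
      (Scheme.ΓSpecIso (CommRingCat.of k)).inv.hom) := by
    have h3 : (g.appLE ⊤ V e).hom.comp (Scheme.ΓSpecIso (CommRingCat.of k)).inv.hom = cst g V :=
      (cst_eq_appLE g V).symm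
    rw [h3]
    ext a
    exact (cst_res g (X.basicOpen_le s) a).symm
  rw [h2]
  have h4 := h0.comp (hst.comp h1)
  rw [zero_add, add_zero] at h4
  exact h4

section Closed

variable [IsAlgClosed k] [LocallyOfFiniteType g] (x : X) (hx : IsClosed ({x} : Set X)) (U : X.Opens) (hxU : x ∈ U)

/-- The value at a closed point as an algebra homomorphism. -/
noncomputable def valA : letI := alg g U; Γ(X, U) →ₐ[k] k :=
  letI := alg g U
  { val g x hx U hxU with commutes' := fun c ↦ val_cst g x hx U hxU c }

theorem valA_apply (a : Γ(X, U)) : (letI := alg g U; valA g x hx U hxU a) = val g x hx U hxU a := rfl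

theorem isLocalization_val (hU : IsAffineOpen U) :
    letI := alg g U
    letI : Algebra Γ(X, U) (X.presheaf.stalk x) := (X.presheaf.germ U x hxU).hom.toAlgebra
    IsLocalization.AtPrime (X.presheaf.stalk x) (RingHom.ker (valA g x hx U hxU)) := by
  let := alg g U
  let i1 : Algebra Γ(X, U) (X.presheaf.stalk x) := (X.presheaf.germ U x hxU).hom.toAlgebra
  have h1 : @IsLocalization.AtPrime _ _ (X.presheaf.stalk x) _ i1 (hU.primeIdealOf ⟨x, hxU⟩).asIdeal _ :=
    hU.isLocalization_stalk ⟨x, hxU⟩
  have h2 : RingHom.ker (valA g x hx U hxU) = (hU.primeIdealOf ⟨x, hxU⟩).asIdeal := by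
    ext a
    rw [RingHom.mem_ker]
    change val g x hx U hxU a = 0 ↔ _
    rw [val_eq_zero_iff]
    exact (IsLocalization.AtPrime.to_map_mem_maximal_iff (X.presheaf.stalk x)
      (hU.primeIdealOf ⟨x, hxU⟩).asIdeal a)
  have h3 : ∀ (P : Ideal Γ(X, U)) (_ : P.IsPrime) (Q : Ideal Γ(X, U)) (_ : Q.IsPrime), P = Q →
      IsLocalization.AtPrime (X.presheaf.stalk x) P → IsLocalization.AtPrime (X.presheaf.stalk x) Q := by
    rintro P _ _ _ rfl h
    exact h
  exact h3 _ _ _ _ h2.symm h1

variable {g x hx U hxU} {n : ℕ}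

/-- The local coordinates at a closed point of a chart. -/
noncomputable def lcoord (g : X ⟶ Spec (CommRingCat.of k)) [LocallyOfFiniteType g] {U : X.Opens}
    (c : letI := alg g U; Coords k Γ(X, U) n) (x : X) (hx : IsClosed ({x} : Set X)) (hxU : x ∈ U) (i : Fin n) :
    X.presheaf.stalk x :=
  letI := alg g U
  (X.presheaf.germ U x hxU).hom (c.T i) - toStalk k g x (val g x hx U hxU (c.T i))

omit [IsAlgClosed k] [LocallyOfFiniteType g] in
theorem isScalarTower_stalk (x : X) (U : X.Opens) (hxU : x ∈ U) :
    letI := alg g U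
    letI : Algebra Γ(X, U) (X.presheaf.stalk x) := (X.presheaf.germ U x hxU).hom.toAlgebra
    letI := salg g x
    IsScalarTower k Γ(X, U) (X.presheaf.stalk x) := by
  let := alg g U
  let : Algebra Γ(X, U) (X.presheaf.stalk x) := (X.presheaf.germ U x hxU).hom.toAlgebra
  let := salg g x
  exact IsScalarTower.of_algebraMap_eq fun c ↦ (germ_cst g x U hxU c).symm

theorem lcoord_eq (c : letI := alg g U; Coords k Γ(X, U) n) :
    letI := alg g U
    letI : Algebra Γ(X, U) (X.presheaf.stalk x) := (X.presheaf.germ U x hxU).hom.toAlgebra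
    letI := salg g x
    lcoord g c x hx hxU = LocPt.loc c (valA g x hx U hxU) (X.presheaf.stalk x) := rfl

theorem span_lcoord (hU : IsAffineOpen U) (c : letI := alg g U; Coords k Γ(X, U) n) :
    Ideal.span (Set.range (lcoord g c x hx hxU)) = maximalIdeal (X.presheaf.stalk x) := by
  let := alg g U
  let : Algebra Γ(X, U) (X.presheaf.stalk x) := (X.presheaf.germ U x hxU).hom.toAlgebra
  let := salg g x
  have := isScalarTower_stalk (g := g) x U hxU
  have := isLocalization_val g x hx U hxU hU
  have : IsLocallyNoetherian X := LocallyOfFiniteType.isLocallyNoetherian g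
  exact LocPt.span_loc c (valA g x hx U hxU) (X.presheaf.stalk x)

theorem lcoord_lin (hU : IsAffineOpen U) (c : letI := alg g U; Coords k Γ(X, U) n) (a : Fin n → k)
    (h : ∑ i, toStalk k g x (a i) * lcoord g c x hx hxU i ∈ maximalIdeal (X.presheaf.stalk x) ^ 2) : a = 0 := by
  let := alg g U
  let : Algebra Γ(X, U) (X.presheaf.stalk x) := (X.presheaf.germ U x hxU).hom.toAlgebra
  let := salg g x
  have := isScalarTower_stalk (g := g) x U hxU
  have := isLocalization_val g x hx U hxU hU
  exact LocPt.loc_lin c (valA g x hx U hxU) (X.presheaf.stalk x) a h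

theorem germ_mem_sq_iff (hU : IsAffineOpen U) (c : letI := alg g U; Coords k Γ(X, U) n) (a : Γ(X, U)) :
    (X.presheaf.germ U x hxU).hom a ∈ maximalIdeal (X.presheaf.stalk x) ^ 2 ↔
      val g x hx U hxU a = 0 ∧ ∀ l, val g x hx U hxU (letI := alg g U; c.d l a) = 0 := by
  let := alg g U
  let : Algebra Γ(X, U) (X.presheaf.stalk x) := (X.presheaf.germ U x hxU).hom.toAlgebra
  let := salg g x
  have := isScalarTower_stalk (g := g) x U hxU
  have := isLocalization_val g x hx U hxU hU
  exact LocPt.algebraMap_mem_sq_iff c (valA g x hx U hxU) (X.presheaf.stalk x) a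

variable {α : Type*} [Fintype α] (h : α → Γ(X, U))

theorem singAt_iff (hU : IsAffineOpen U) (c : letI := alg g U; Coords k Γ(X, U) n) (e : α → k) :
    (letI := alg g U; SingAt c h (valA g x hx U hxU) e) ↔
      (X.presheaf.germ U x hxU).hom (∑ a, cst g U (e a) * h a) ∈ maximalIdeal (X.presheaf.stalk x) ^ 2 := by
  let := alg g U
  let : Algebra Γ(X, U) (X.presheaf.stalk x) := (X.presheaf.germ U x hxU).hom.toAlgebra
  let := salg g x
  have := isScalarTower_stalk (g := g) x U hxU
  have := isLocalization_val g x hx U hxU hU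
  exact LocPt.singAt_iff c (valA g x hx U hxU) (X.presheaf.stalk x) h e

theorem germ_sub_quad_mem (hU : IsAffineOpen U) (c : letI := alg g U; Coords k Γ(X, U) n)
    {b : α → Fin n → Fin n → Γ(X, U)} (hb : letI := alg g U; IsHess c h b) (e : α → k)
    (hs : (X.presheaf.germ U x hxU).hom (∑ a, cst g U (e a) * h a) ∈ maximalIdeal (X.presheaf.stalk x) ^ 2) :
    (X.presheaf.germ U x hxU).hom (∑ a, cst g U (e a) * h a) -
      MvPolynomial.eval₂Hom (toStalk k g x) (lcoord g c x hx hxU)
        (quad fun i j ↦ ∑ a, e a * val g x hx U hxU (b a i j)) ∈ maximalIdeal (X.presheaf.stalk x) ^ 3 := by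
  let := alg g U
  let : Algebra Γ(X, U) (X.presheaf.stalk x) := (X.presheaf.germ U x hxU).hom.toAlgebra
  let := salg g x
  have := isScalarTower_stalk (g := g) x U hxU
  have := isLocalization_val g x hx U hxU hU
  exact LocPt.sub_aeval_quad_mem c (valA g x hx U hxU) (X.presheaf.stalk x) h hb e
    ((singAt_iff h hU c e).2 hs)

theorem formallySmooth_stalk (n : ℕ) (hU : IsAffineOpen U) (hst : (cst g U).IsStandardSmoothOfRelativeDimension n)
    (hx : IsClosed ({x} : Set X)) (hxU : x ∈ U) :
    letI := salg g x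
    Algebra.FormallySmooth k (X.presheaf.stalk x) := by
  let := alg g U
  let : Algebra Γ(X, U) (X.presheaf.stalk x) := (X.presheaf.germ U x hxU).hom.toAlgebra
  let := salg g x
  have := isScalarTower_stalk (g := g) x U hxU
  have := isLocalization_val g x hx U hxU hU
  have h1 : Algebra.IsStandardSmoothOfRelativeDimension n k Γ(X, U) := hst
  have h2 : Algebra.IsStandardSmooth k Γ(X, U) := h1.isStandardSmooth
  have h3 : Algebra.FormallySmooth k Γ(X, U) := inferInstance
  have h4 : Algebra.FormallySmooth Γ(X, U) (X.presheaf.stalk x) :=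
    Algebra.FormallySmooth.of_isLocalization (RingHom.ker (valA g x hx U hxU)).primeCompl
  exact Algebra.FormallySmooth.comp k Γ(X, U) (X.presheaf.stalk x)

omit [IsAlgClosed k] [LocallyOfFiniteType g] in
theorem essFiniteType (n : ℕ) (hst : (cst g U).IsStandardSmoothOfRelativeDimension n) :
    letI := alg g U
    Algebra.EssFiniteType k Γ(X, U) := by
  let := alg g U
  have h1 : Algebra.IsStandardSmoothOfRelativeDimension n k Γ(X, U) := hst
  have h2 : Algebra.IsStandardSmooth k Γ(X, U) := h1.isStandardSmooth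
  infer_instance

omit [IsAlgClosed k] [LocallyOfFiniteType g] in
theorem exists_coords (n : ℕ) (hst : (cst g U).IsStandardSmoothOfRelativeDimension n) :
    letI := alg g U
    Nonempty (Coords k Γ(X, U) n) := by
  let := alg g U
  exact CoordsSmooth.exists_coords hst

end Closed

end Groth.Agent.Lefpen.H707.ChartData
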