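import Mathlib.RingTheory.MvPolynomial.Ideal
import Mathlib.RingTheory.MvPolynomial.Homogeneous
import Mathlib.RingTheory.LocalRing.MaximalIdeal.Basic
import Mathlib.RingTheory.LocalRing.RingHom.Basic
import Mathlib.LinearAlgebra.Matrix.NonsingularInverse
import Mathlib.LinearAlgebra.Matrix.ToLinearEquiv

/-!
# Leading quadratic forms: independence of the presentation

`exists_matrix`: let `q : R ↠ S = R/(h)` be local rings over a field `k`, `t` generating the maximal ideal of `R`, and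
`s` elements of the maximal ideal of `S`, linearly independent modulo its square, with `Q₂(s) ∈ 𝔪_S³`.  Then
`h ∈ 𝔪_R²` and `Q₂(M t) - g h ∈ 𝔪_R³` for an invertible matrix `M` and a scalar `g`.
-/

set_option autoImplicit false

open IsLocalRing MvPolynomial

namespace Groth.Agent.Lefpen.H707.Cotan

section Eval

variable {k R : Type*} [CommRing k] [CommRing R] {σ : Type*} (φ : k →+* R) (I : Ideal R)

theorem eval₂_mem_pow {x : σ → R} (hx : ∀ i, x i ∈ I) (n : ℕ) {P : MvPolynomial σ k}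
    (hP : P ∈ idealOfVars σ k ^ n) : eval₂ φ x P ∈ I ^ n := by
  have h1 : idealOfVars σ k ≤ I.comap (eval₂Hom φ x) := by
    rw [idealOfVars, Ideal.span_le]
    rintro _ ⟨i, rfl⟩
    rw [SetLike.mem_coe, Ideal.mem_comap, eval₂Hom_X']
    exact hx i
  exact (Ideal.pow_right_mono h1 n).trans (Ideal.le_comap_pow _ n) hP

theorem eval₂_sub_mem {x y : σ → R} (hxy : ∀ i, x i - y i ∈ I) (P : MvPolynomial σ k) :
    eval₂ φ x P - eval₂ φ y P ∈ I := by
  rw [← Ideal.Quotient.eq, hom_eval₂, hom_eval₂]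
  congr 1
  funext i
  exact Ideal.Quotient.eq.2 (hxy i)

theorem eval₂_sub_mem_pow {x y : σ → R} (hx : ∀ i, x i ∈ I) (hxy : ∀ i, x i - y i ∈ I ^ 2) (n : ℕ)
    {P : MvPolynomial σ k} (hP : P ∈ idealOfVars σ k ^ n) :
    eval₂ φ x P - eval₂ φ y P ∈ I ^ (n + 1) := by
  have hxy1 : ∀ i, x i - y i ∈ I := fun i ↦ Ideal.pow_le_self two_ne_zero (hxy i)
  have hy : ∀ i, y i ∈ I := fun i ↦ by
    have := sub_mem (hx i) (hxy1 i)
    rwa [sub_sub_cancel] at this
  have key : ∀ V : MvPolynomial σ k, V ∈ idealOfVars σ k → eval₂ φ x V - eval₂ φ y V ∈ I ^ 2 := by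
    intro V hV
    refine Submodule.span_induction (p := fun V _ ↦ eval₂ φ x V - eval₂ φ y V ∈ I ^ 2) ?_ ?_ ?_ ?_ hV
    · rintro _ ⟨i, rfl⟩
      rw [eval₂_X, eval₂_X]
      exact hxy i
    · simp
    · intro a b _ _ ha hb
      rw [eval₂_add, eval₂_add, add_sub_add_comm]
      exact add_mem ha hb
    · intro a b hb h
      rw [smul_eq_mul, eval₂_mul, eval₂_mul]
      have h1 : eval₂ φ x a * eval₂ φ x b - eval₂ φ y a * eval₂ φ y b =
          (eval₂ φ x a - eval₂ φ y a) * eval₂ φ x b + eval₂ φ y a * (eval₂ φ x b - eval₂ φ y b) := by ring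
      rw [h1]
      refine add_mem ?_ (Ideal.mul_mem_left _ _ h)
      rw [pow_two]
      refine Ideal.mul_mem_mul (eval₂_sub_mem φ I hxy1 a) ?_
      have := eval₂_mem_pow φ I hx 1 (P := b) (by rwa [pow_one])
      rwa [pow_one] at this
  induction n generalizing P with
  | zero =>
    rw [zero_add, pow_one]
    exact eval₂_sub_mem φ I hxy1 P
  | succ n ih =>
    rw [pow_succ] at hP
    refine Submodule.mul_induction_on (C := fun P ↦ eval₂ φ x P - eval₂ φ y P ∈ I ^ (n + 1 + 1)) hP ?_ ?_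
    · intro a ha b hb
      rw [eval₂_mul, eval₂_mul]
      have h1 : eval₂ φ x a * eval₂ φ x b - eval₂ φ y a * eval₂ φ y b =
          (eval₂ φ x a - eval₂ φ y a) * eval₂ φ x b + eval₂ φ y a * (eval₂ φ x b - eval₂ φ y b) := by ring
      rw [h1]
      refine add_mem ?_ ?_
      · rw [pow_succ]
        refine Ideal.mul_mem_mul (ih ha) ?_
        have := eval₂_mem_pow φ I hx 1 (P := b) (by rwa [pow_one])
        rwa [pow_one] at this
      · have h2 : I ^ (n + 1 + 1) = I ^ n * I ^ 2 := by rw [← pow_add]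
        rw [h2]
        exact Ideal.mul_mem_mul (eval₂_mem_pow φ I hy n ha) (key b hb)
    · intro a b ha hb
      rw [eval₂_add, eval₂_add, add_sub_add_comm]
      exact add_mem ha hb

theorem mem_pow_of_isHomogeneous {n : ℕ} {P : MvPolynomial σ k} (hP : P.IsHomogeneous n) :
    P ∈ idealOfVars σ k ^ n := by
  rw [mem_pow_idealOfVars_iff']
  intro e he
  exact hP.coeff_eq_zero he.ne

end Eval

variable {k R S : Type*} [Field k] [CommRing R] [IsLocalRing R] [CommRing S] [IsLocalRing S]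

/-- Expansion of an element of the maximal ideal to first order. -/
theorem exists_linear (φ : k →+* R) (hφ : ∀ r : R, ∃ c : k, r - φ c ∈ maximalIdeal R) {n : ℕ}
    (t : Fin n → R) (ht : Ideal.span (Set.range t) = maximalIdeal R) (x : R) (hx : x ∈ maximalIdeal R) :
    ∃ b : Fin n → k, x - ∑ j, φ (b j) * t j ∈ maximalIdeal R ^ 2 := by
  rw [← ht, Ideal.mem_span_range_iff_exists_fun] at hx
  obtain ⟨c, hc⟩ := hx
  choose b hb using fun j ↦ hφ (c j)
  refine ⟨b, ?_⟩
  rw [← hc, ← Finset.sum_sub_distrib]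
  refine sum_mem fun j _ ↦ ?_
  rw [← sub_mul, pow_two]
  refine Ideal.mul_mem_mul (hb j) ?_
  rw [← ht]
  exact Ideal.subset_span ⟨j, rfl⟩

theorem exists_matrix (φ : k →+* R) (hφ : ∀ r : R, ∃ c : k, r - φ c ∈ maximalIdeal R) {n : ℕ}
    (t : Fin n → R) (ht : Ideal.span (Set.range t) = maximalIdeal R) (q : R →+* S)
    (hq : Function.Surjective q) (h : R) (hker : RingHom.ker q = Ideal.span {h}) (s : Fin n → S)
    (hs : ∀ i, s i ∈ maximalIdeal S)
    (hlin : ∀ a : Fin n → k, ∑ i, q (φ (a i)) * s i ∈ maximalIdeal S ^ 2 → a = 0)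
    (Q₂ : MvPolynomial (Fin n) k) (hQ : Q₂.IsHomogeneous 2)
    (hQs : eval₂ (q.comp φ) s Q₂ ∈ maximalIdeal S ^ 3) :
    h ∈ maximalIdeal R ^ 2 ∧ ∃ (M : Matrix (Fin n) (Fin n) k) (g : k), IsUnit M ∧
      eval₂ φ (fun i ↦ ∑ j, φ (M i j) * t j) Q₂ - φ g * h ∈ maximalIdeal R ^ 3 := by
  classical
  have hloc : IsLocalHom q := hq.isLocalHom
  have hmax : (maximalIdeal R).map q = maximalIdeal S := map_maximalIdeal_of_surjective q hq
  have hqm : ∀ x, x ∈ maximalIdeal R ↔ q x ∈ maximalIdeal S := fun x ↦ by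
    rw [← Ideal.mem_comap, maximalIdeal_comap]
  have hqpow : ∀ (N : ℕ) (x : R), x ∈ maximalIdeal R ^ N → q x ∈ maximalIdeal S ^ N := by
    intro N x hx
    rw [← hmax, ← Ideal.map_pow]
    exact Ideal.mem_map_of_mem _ hx
  have htm : ∀ j, t j ∈ maximalIdeal R := fun j ↦ by rw [← ht]; exact Ideal.subset_span ⟨j, rfl⟩
  have hh : h ∈ maximalIdeal R := by
    rw [hqm]
    have : q h = 0 := by
      rw [← RingHom.mem_ker, hker]
      exact Ideal.mem_span_singleton_self h
    rw [this]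
    exact zero_mem _
  have hqh : q h = 0 := by
    rw [← RingHom.mem_ker, hker]
    exact Ideal.mem_span_singleton_self h
  choose s' hs' using fun i ↦ hq (s i)
  have hsm : ∀ i, s' i ∈ maximalIdeal R := fun i ↦ by rw [hqm, hs' i]; exact hs i
  choose M hM using fun i ↦ exists_linear φ hφ t ht (s' i) (hsm i)
  -- linear independence of the `s' i` modulo the square
  have hind : ∀ a : Fin n → k, ∑ i, φ (a i) * s' i ∈ maximalIdeal R ^ 2 → a = 0 := by
    intro a ha
    refine hlin a ?_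
    have h1 := hqpow 2 _ ha
    rw [map_sum] at h1
    simpa only [map_mul, hs'] using h1
  have hMM : ∀ a : Fin n → k, (∑ i, φ (a i) * s' i) -
      ∑ j, φ (∑ i, a i * M i j) * t j ∈ maximalIdeal R ^ 2 := by
    intro a
    have h1 : (∑ i, φ (a i) * s' i) - ∑ j, φ (∑ i, a i * M i j) * t j =
        ∑ i, φ (a i) * (s' i - ∑ j, φ (M i j) * t j) := by
      simp only [mul_sub, Finset.sum_sub_distrib, map_sum, map_mul, Finset.sum_mul, Finset.mul_sum]
      congr 1
      rw [Finset.sum_comm]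
      refine Finset.sum_congr rfl fun i _ ↦ Finset.sum_congr rfl fun j _ ↦ by ring
    rw [h1]
    exact sum_mem fun i _ ↦ Ideal.mul_mem_left _ _ (hM i)
  have hMinj : Function.Injective (fun a : Fin n → k ↦ Matrix.vecMul a (Matrix.of M)) := by
    intro a b hab
    have h0 : Matrix.vecMul (a - b) (Matrix.of M) = 0 := by
      rw [Matrix.sub_vecMul]
      exact sub_eq_zero.2 hab
    have h1 := hMM (a - b)
    have h2 : ∀ j, ∑ i, (a - b) i * M i j = 0 := fun j ↦ by
      have := congrFun h0 j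
      simpa [Matrix.vecMul, dotProduct] using this
    simp only [h2, map_zero, zero_mul, Finset.sum_const_zero, sub_zero] at h1
    exact sub_eq_zero.1 (hind _ h1)
  have hMunit : IsUnit (Matrix.of M) := Matrix.vecMul_injective_iff_isUnit.1 hMinj
  have hMsurj : ∀ b : Fin n → k, ∃ a : Fin n → k, ∀ j, ∑ i, a i * M i j = b j := by
    intro b
    obtain ⟨a, ha⟩ := (Matrix.vecMul_surjective_iff_isUnit.2 hMunit) b
    refine ⟨a, fun j ↦ ?_⟩
    have := congrFun ha j
    simpa [Matrix.vecMul, dotProduct] using this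
  have hh2 : h ∈ maximalIdeal R ^ 2 := by
    obtain ⟨b, hb⟩ := exists_linear φ hφ t ht h hh
    obtain ⟨a, ha⟩ := hMsurj b
    have h1 := hMM a
    simp only [ha] at h1
    -- `h ≡ ∑ a_i s'_i`
    have h2 : h - ∑ i, φ (a i) * s' i ∈ maximalIdeal R ^ 2 := by
      have := sub_mem hb h1
      have h3 : h - ∑ i, φ (a i) * s' i = h - ∑ j, φ (b j) * t j -
          (∑ i, φ (a i) * s' i - ∑ j, φ (b j) * t j) := by ring
      rw [h3]
      exact this
    have h3 := hqpow 2 _ h2
    rw [map_sub, hqh, zero_sub, neg_mem_iff, map_sum] at h3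
    have h4 : a = 0 := by
      refine hlin a ?_
      simpa only [map_mul, hs'] using h3
    have h5 : b = 0 := by
      funext j
      rw [← ha j, h4]
      simp
    rw [h5] at hb
    simpa using hb
  refine ⟨hh2, Matrix.of M, ?_⟩
  -- the quadratic form evaluated at the lifts
  have h1 : q (eval₂ φ s' Q₂) ∈ maximalIdeal S ^ 3 := by
    rw [hom_eval₂]
    convert hQs using 2
    funext i
    exact hs' i
  rw [← hmax, ← Ideal.map_pow, Ideal.mem_map_iff_of_surjective _ hq] at h1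
  obtain ⟨w, hw, hw'⟩ := h1
  have h2 : eval₂ φ s' Q₂ - w ∈ Ideal.span {h} := by
    rw [← hker, RingHom.mem_ker, map_sub, hw', sub_self]
  obtain ⟨g, hg⟩ := Ideal.mem_span_singleton'.1 h2
  obtain ⟨c, hc⟩ := hφ g
  refine ⟨c, hMunit, ?_⟩
  have h3 : eval₂ φ (fun i ↦ ∑ j, φ (Matrix.of M i j) * t j) Q₂ - φ c * h =
      w + (g - φ c) * h - (eval₂ φ s' Q₂ - eval₂ φ (fun i ↦ ∑ j, φ (M i j) * t j) Q₂) := by
    have : (g - φ c) * h = (eval₂ φ s' Q₂ - w) - φ c * h := by rw [← hg]; ring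
    rw [this]
    simp only [Matrix.of_apply]
    ring
  rw [h3]
  refine sub_mem (add_mem hw ?_) ?_
  · have : maximalIdeal R ^ 3 = maximalIdeal R * maximalIdeal R ^ 2 := by rw [← pow_succ']
    rw [this]
    exact Ideal.mul_mem_mul hc hh2
  · exact eval₂_sub_mem_pow φ (maximalIdeal R) hsm hM 2 (mem_pow_of_isHomogeneous hQ)

end Groth.Agent.Lefpen.H707.Cotan
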