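import Mathlib.RingTheory.Kaehler.Basic

/-!
# Second order Taylor expansions along the diagonal, in every characteristic

`A` a `k`-algebra with coordinates `T_i` (`D T_i` generate `Ω[A/k]` with dual derivations `d_i`).
For two `k`-algebra maps `x y : A → C` let `J = (y a - x a)`.  Then for every `a` there are `b_ij ∈ A` with
`y a - x a ≡ ∑ x(d_i a) δ_i + ∑ x(b_ij) δ_i δ_j mod J³` and `y (d_l a) - x (d_l a) ≡ ∑ x(b_lj + b_jl) δ_j mod J²`,
where `δ_i = y T_i - x T_i`.
-/

set_option autoImplicit false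

open scoped TensorProduct
open Algebra

namespace Groth.Agent.Lefpen.H707.Expand

/-- Coordinates of a `k`-algebra: elements whose differentials generate the differentials, with dual derivations. -/
structure Coords (k A : Type*) [CommRing k] [CommRing A] [Algebra k A] (n : ℕ) where
  /-- the coordinate functions -/
  T : Fin n → A
  /-- the dual derivations -/
  d : Fin n → Derivation k A A
  d_T : ∀ i j, d i (T j) = if i = j then 1 else 0
  D_eq : ∀ a, KaehlerDifferential.D k A a = ∑ i, d i a • KaehlerDifferential.D k A (T i)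

variable {k A : Type*} [CommRing k] [CommRing A] [Algebra k A] {n : ℕ}

/-- `1 ⊗ a - a ⊗ 1`. -/
def del (k : Type*) {A : Type*} [CommRing k] [CommRing A] [Algebra k A] (a : A) : A ⊗[k] A :=
  (1 : A) ⊗ₜ[k] a - a ⊗ₜ[k] (1 : A)

theorem del_mem (a : A) : del k a ∈ KaehlerDifferential.ideal k A :=
  KaehlerDifferential.one_smul_sub_smul_one_mem_ideal k a

theorem first (c : Coords k A n) (a : A) :
    del k a - ∑ i, (c.d i a ⊗ₜ[k] (1 : A)) * del k (c.T i) ∈ KaehlerDifferential.ideal k A ^ 2 := by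
  have hmem : ∑ i, (c.d i a ⊗ₜ[k] (1 : A)) * del k (c.T i) ∈ KaehlerDifferential.ideal k A :=
    sum_mem fun i _ ↦ Ideal.mul_mem_left _ _ (del_mem _)
  have h1 := c.D_eq a
  rw [KaehlerDifferential.D_apply] at h1
  have h2 : ∑ i, c.d i a • KaehlerDifferential.D k A (c.T i) =
      (KaehlerDifferential.ideal k A).toCotangent ⟨_, hmem⟩ := by
    have h3 : (⟨_, hmem⟩ : KaehlerDifferential.ideal k A) =
        ∑ i, (c.d i a ⊗ₜ[k] (1 : A)) • (⟨del k (c.T i), del_mem _⟩ : KaehlerDifferential.ideal k A) := by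
      apply Subtype.ext
      rw [AddSubmonoidClass.coe_finsetSum]
      rfl
    rw [h3, map_sum]
    refine Finset.sum_congr rfl fun i _ ↦ ?_
    rw [map_smul, KaehlerDifferential.D_apply]
    exact algebraMap_smul (A ⊗[k] A) (c.d i a) _ |>.symm
  rw [h2] at h1
  exact (Ideal.toCotangent_eq _).1 h1

theorem first' (c : Coords k A n) {w : A ⊗[k] A} (hw : w ∈ KaehlerDifferential.ideal k A) :
    ∃ b : Fin n → A, w - ∑ i, (b i ⊗ₜ[k] (1 : A)) * del k (c.T i) ∈ KaehlerDifferential.ideal k A ^ 2 := by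
  have hw' : w ∈ (KaehlerDifferential.ideal k A).restrictScalars A := hw
  rw [← KaehlerDifferential.submodule_span_range_eq_ideal] at hw'
  refine Submodule.span_induction (p := fun w _ ↦ ∃ b : Fin n → A,
    w - ∑ i, (b i ⊗ₜ[k] (1 : A)) * del k (c.T i) ∈ KaehlerDifferential.ideal k A ^ 2) ?_ ?_ ?_ ?_ hw'
  · rintro _ ⟨a, rfl⟩
    exact ⟨fun i ↦ c.d i a, first c a⟩
  · exact ⟨0, by simp⟩
  · rintro u v _ _ ⟨b, hb⟩ ⟨b', hb'⟩
    refine ⟨b + b', ?_⟩
    have h1 : u + v - ∑ i, ((b + b') i ⊗ₜ[k] (1 : A)) * del k (c.T i) =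
        (u - ∑ i, (b i ⊗ₜ[k] (1 : A)) * del k (c.T i)) + (v - ∑ i, (b' i ⊗ₜ[k] (1 : A)) * del k (c.T i)) := by
      simp only [Pi.add_apply, TensorProduct.add_tmul, add_mul, Finset.sum_add_distrib]
      ring
    rw [h1]
    exact add_mem hb hb'
  · rintro r u _ ⟨b, hb⟩
    refine ⟨fun i ↦ r * b i, ?_⟩
    have h1 : r • u - ∑ i, ((r * b i) ⊗ₜ[k] (1 : A)) * del k (c.T i) =
        (r ⊗ₜ[k] (1 : A)) * (u - ∑ i, (b i ⊗ₜ[k] (1 : A)) * del k (c.T i)) := by
      rw [mul_sub, Finset.mul_sum, Algebra.smul_def]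
      congr 1
      refine Finset.sum_congr rfl fun i _ ↦ ?_
      rw [← mul_assoc, Algebra.TensorProduct.tmul_mul_tmul, mul_one]
    rw [h1]
    exact Ideal.mul_mem_left _ _ hb

theorem second (c : Coords k A n) {w : A ⊗[k] A} (hw : w ∈ KaehlerDifferential.ideal k A ^ 2) :
    ∃ b : Fin n → Fin n → A, w - ∑ i, ∑ j, (b i j ⊗ₜ[k] (1 : A)) * (del k (c.T i) * del k (c.T j)) ∈
      KaehlerDifferential.ideal k A ^ 3 := by
  rw [pow_two] at hw
  refine Submodule.mul_induction_on (C := fun w ↦ ∃ b : Fin n → Fin n → A,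
    w - ∑ i, ∑ j, (b i j ⊗ₜ[k] (1 : A)) * (del k (c.T i) * del k (c.T j)) ∈
      KaehlerDifferential.ideal k A ^ 3) hw ?_ ?_
  · intro u hu v hv
    obtain ⟨b, hb⟩ := first' c hu
    obtain ⟨b', hb'⟩ := first' c hv
    refine ⟨fun i j ↦ b i * b' j, ?_⟩
    set B := ∑ i, (b i ⊗ₜ[k] (1 : A)) * del k (c.T i) with hB
    set B' := ∑ i, (b' i ⊗ₜ[k] (1 : A)) * del k (c.T i) with hB'
    have h1 : ∑ i, ∑ j, ((b i * b' j) ⊗ₜ[k] (1 : A)) * (del k (c.T i) * del k (c.T j)) = B * B' := by
      rw [hB, hB', Finset.sum_mul_sum]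
      refine Finset.sum_congr rfl fun i _ ↦ Finset.sum_congr rfl fun j _ ↦ ?_
      have : (b i * b' j) ⊗ₜ[k] (1 : A) = (b i ⊗ₜ[k] (1 : A)) * (b' j ⊗ₜ[k] (1 : A)) := by
        rw [Algebra.TensorProduct.tmul_mul_tmul, mul_one]
      rw [this]
      ring
    have hBm : B ∈ KaehlerDifferential.ideal k A := sum_mem fun i _ ↦ Ideal.mul_mem_left _ _ (del_mem _)
    rw [h1]
    have h2 : u * v - B * B' = (u - B) * v + B * (v - B') := by ring
    rw [h2]
    refine add_mem ?_ ?_
    · have : KaehlerDifferential.ideal k A ^ 3 = KaehlerDifferential.ideal k A ^ 2 * KaehlerDifferential.ideal k A :=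
        pow_succ _ 2
      rw [this]
      exact Ideal.mul_mem_mul hb hv
    · have : KaehlerDifferential.ideal k A ^ 3 = KaehlerDifferential.ideal k A * KaehlerDifferential.ideal k A ^ 2 :=
        pow_succ' _ 2
      rw [this]
      exact Ideal.mul_mem_mul hBm hb'
  · rintro u v ⟨b, hb⟩ ⟨b', hb'⟩
    refine ⟨fun i j ↦ b i j + b' i j, ?_⟩
    have h1 : u + v - ∑ i, ∑ j, ((b i j + b' i j) ⊗ₜ[k] (1 : A)) * (del k (c.T i) * del k (c.T j)) =
        (u - ∑ i, ∑ j, (b i j ⊗ₜ[k] (1 : A)) * (del k (c.T i) * del k (c.T j))) +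
        (v - ∑ i, ∑ j, (b' i j ⊗ₜ[k] (1 : A)) * (del k (c.T i) * del k (c.T j))) := by
      simp only [TensorProduct.add_tmul, add_mul, Finset.sum_add_distrib]
      ring
    rw [h1]
    exact add_mem hb hb'

/-- The derivation `id ⊗ d` of `A ⊗ A`. -/
noncomputable def rightDer (d : Derivation k A A) : Derivation k (A ⊗[k] A) (A ⊗[k] A) :=
  Derivation.mk' (TensorProduct.map LinearMap.id (d : A →ₗ[k] A)) (fun u v ↦ by
    induction u using TensorProduct.induction_on with
    | zero => simp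
    | add u u' hu hu' =>
      rw [add_mul, map_add, map_add, hu, hu', add_smul, smul_add]
      abel
    | tmul a b =>
      induction v using TensorProduct.induction_on with
      | zero => simp
      | add v v' hv hv' =>
        rw [mul_add, map_add, map_add, hv, hv', add_smul, smul_add]
        abel
      | tmul a' b' =>
        simp only [Algebra.TensorProduct.tmul_mul_tmul, TensorProduct.map_tmul, LinearMap.id_coe, id_eq,
          Derivation.coeFn_coe, Derivation.leibniz, smul_eq_mul, TensorProduct.tmul_add]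
        congr 2
        exact mul_comm _ _)

theorem rightDer_tmul (d : Derivation k A A) (a b : A) : rightDer d (a ⊗ₜ[k] b) = a ⊗ₜ[k] d b := rfl

theorem rightDer_del (d : Derivation k A A) (a : A) : rightDer d (del k a) = 1 ⊗ₜ[k] d a := by
  rw [del, map_sub, rightDer_tmul, rightDer_tmul, Derivation.map_one_eq_zero, TensorProduct.tmul_zero, sub_zero]

theorem rightDer_mem (d : Derivation k A A) (m : ℕ) {w : A ⊗[k] A}
    (hw : w ∈ KaehlerDifferential.ideal k A ^ (m + 1)) : rightDer d w ∈ KaehlerDifferential.ideal k A ^ m := by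
  induction m generalizing w with
  | zero => simp
  | succ m ih =>
    rw [pow_succ] at hw
    refine Submodule.mul_induction_on (C := fun w ↦ rightDer d w ∈ KaehlerDifferential.ideal k A ^ (m + 1)) hw ?_ ?_
    · intro u hu v hv
      rw [Derivation.leibniz]
      refine add_mem (Ideal.mul_mem_right _ _ hu) ?_
      rw [smul_eq_mul, mul_comm, pow_succ]
      exact Ideal.mul_mem_mul (ih hu) hv
    · intro u v hu hv
      rw [map_add]
      exact add_mem hu hv

/-- Second order expansion along the diagonal. -/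
theorem second_order (c : Coords k A n) (a : A) :
    ∃ b : Fin n → Fin n → A,
      del k a - ∑ i, (c.d i a ⊗ₜ[k] (1 : A)) * del k (c.T i) -
        ∑ i, ∑ j, (b i j ⊗ₜ[k] (1 : A)) * (del k (c.T i) * del k (c.T j)) ∈ KaehlerDifferential.ideal k A ^ 3 ∧
      ∀ l, del k (c.d l a) - ∑ j, ((b l j + b j l) ⊗ₜ[k] (1 : A)) * del k (c.T j) ∈
        KaehlerDifferential.ideal k A ^ 2 := by
  obtain ⟨b, hb⟩ := second c (first c a)
  refine ⟨b, hb, fun l ↦ ?_⟩
  have h1 := rightDer_mem (c.d l) 2 hb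
  have e1 : ∀ (x : A) (w : A ⊗[k] A), rightDer (c.d l) ((x ⊗ₜ[k] (1 : A)) * w) =
      (x ⊗ₜ[k] (1 : A)) * rightDer (c.d l) w := by
    intro x w
    rw [Derivation.leibniz, rightDer_tmul, Derivation.map_one_eq_zero, TensorProduct.tmul_zero, smul_zero,
      add_zero, smul_eq_mul]
  have e2 : ∀ j, rightDer (c.d l) (del k (c.T j)) = if l = j then 1 else 0 := by
    intro j
    rw [rightDer_del, c.d_T]
    split_ifs
    · rfl
    · rw [TensorProduct.tmul_zero]
  have e3 : ∀ i j, rightDer (c.d l) (del k (c.T i) * del k (c.T j)) =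
      (if l = j then del k (c.T i) else 0) + (if l = i then del k (c.T j) else 0) := by
    intro i j
    rw [Derivation.leibniz, e2, e2, smul_eq_mul, smul_eq_mul]
    split_ifs <;> simp
  rw [map_sub, map_sub, rightDer_del, map_sum, map_sum] at h1
  simp only [map_sum, e1, e2, e3] at h1
  have h2 : ∑ i, (c.d i a ⊗ₜ[k] (1 : A)) * (if l = i then (1 : A ⊗[k] A) else 0) = c.d l a ⊗ₜ[k] (1 : A) := by
    simp
  have h3 : ∑ i, ∑ j, (b i j ⊗ₜ[k] (1 : A)) *
      ((if l = j then del k (c.T i) else 0) + (if l = i then del k (c.T j) else 0)) =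
      ∑ j, ((b l j + b j l) ⊗ₜ[k] (1 : A)) * del k (c.T j) := by
    simp only [mul_add, mul_ite, mul_zero, Finset.sum_add_distrib, TensorProduct.add_tmul, add_mul]
    rw [add_comm]
    congr 1
    · rw [Finset.sum_comm]
      refine Finset.sum_congr rfl fun j _ ↦ ?_
      simp
    · refine Finset.sum_congr rfl fun j _ ↦ ?_
      simp
  rw [h2, h3] at h1
  exact h1

section Points

variable {C : Type*} [CommRing C] [Algebra k C] (x y : A →ₐ[k] C)

/-- The ideal of the locus where `x` and `y` agree. -/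
def diagIdeal : Ideal C := Ideal.span (Set.range fun a ↦ y a - x a)

theorem sub_mem_diagIdeal (a : A) : y a - x a ∈ diagIdeal x y := Ideal.subset_span ⟨a, rfl⟩

/-- The map `A ⊗ A → C` attached to the pair of points. -/
noncomputable def pairMap : A ⊗[k] A →ₐ[k] C := Algebra.TensorProduct.lift x y (fun _ _ ↦ Commute.all _ _)

theorem pairMap_tmul (a b : A) : pairMap x y (a ⊗ₜ[k] b) = x a * y b :=
  Algebra.TensorProduct.lift_tmul _ _ _ _ _

theorem pairMap_del (a : A) : pairMap x y (del k a) = y a - x a := by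
  rw [del, map_sub, pairMap_tmul, pairMap_tmul, map_one, map_one, one_mul, mul_one]

theorem map_ideal : (KaehlerDifferential.ideal k A).map (pairMap x y : A ⊗[k] A →+* C) = diagIdeal x y := by
  rw [← KaehlerDifferential.span_range_eq_ideal, Ideal.map_span, diagIdeal, ← Set.range_comp]
  congr 2
  funext a
  exact pairMap_del x y a

theorem pairMap_mem {w : A ⊗[k] A} {m : ℕ} (hw : w ∈ KaehlerDifferential.ideal k A ^ m) :
    pairMap x y w ∈ diagIdeal x y ^ m := by
  rw [← map_ideal, ← Ideal.map_pow]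
  exact Ideal.mem_map_of_mem _ hw

theorem diagIdeal_fg [Algebra.EssFiniteType k A] : (diagIdeal x y).FG := by
  rw [← map_ideal]
  exact (KaehlerDifferential.ideal_fg (R := k) (S := A)).map _

theorem first_order_points (c : Coords k A n) (a : A) :
    y a - x a - ∑ i, x (c.d i a) * (y (c.T i) - x (c.T i)) ∈ diagIdeal x y ^ 2 := by
  have h1 := pairMap_mem x y (first c a)
  rw [map_sub, pairMap_del, map_sum] at h1
  simp only [map_mul, pairMap_del, pairMap_tmul, map_one, mul_one] at h1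
  exact h1

theorem second_order_points (c : Coords k A n) (a : A) {b : Fin n → Fin n → A}
    (hb : del k a - ∑ i, (c.d i a ⊗ₜ[k] (1 : A)) * del k (c.T i) -
        ∑ i, ∑ j, (b i j ⊗ₜ[k] (1 : A)) * (del k (c.T i) * del k (c.T j)) ∈ KaehlerDifferential.ideal k A ^ 3) :
    y a - x a - ∑ i, x (c.d i a) * (y (c.T i) - x (c.T i)) -
      ∑ i, ∑ j, x (b i j) * ((y (c.T i) - x (c.T i)) * (y (c.T j) - x (c.T j))) ∈ diagIdeal x y ^ 3 := by
  have h1 := pairMap_mem x y hb
  rw [map_sub, map_sub, pairMap_del, map_sum, map_sum] at h1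
  simp only [map_sum, map_mul, pairMap_del, pairMap_tmul, map_one, mul_one] at h1
  exact h1

theorem polar_points (c : Coords k A n) (a : A) (l : Fin n) {b : Fin n → Fin n → A}
    (hb : del k (c.d l a) - ∑ j, ((b l j + b j l) ⊗ₜ[k] (1 : A)) * del k (c.T j) ∈
        KaehlerDifferential.ideal k A ^ 2) :
    y (c.d l a) - x (c.d l a) - ∑ j, (x (b l j) + x (b j l)) * (y (c.T j) - x (c.T j)) ∈
      diagIdeal x y ^ 2 := by
  have h1 := pairMap_mem x y hb
  rw [map_sub, pairMap_del, map_sum] at h1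
  simp only [map_mul, pairMap_del, pairMap_tmul, map_one, mul_one, map_add] at h1
  exact h1

/-- The diagonal ideal is generated by the coordinate differences up to its square. -/
theorem diagIdeal_le (c : Coords k A n) :
    diagIdeal x y ≤ Ideal.span (Set.range fun i ↦ y (c.T i) - x (c.T i)) ⊔ diagIdeal x y ^ 2 := by
  rw [diagIdeal, Ideal.span_le]
  rintro _ ⟨a, rfl⟩
  have h1 := first_order_points x y c a
  have h2 : y a - x a = ∑ i, x (c.d i a) * (y (c.T i) - x (c.T i)) +
      (y a - x a - ∑ i, x (c.d i a) * (y (c.T i) - x (c.T i))) := by ring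
  rw [SetLike.mem_coe]
  simp only
  rw [h2]
  refine Submodule.add_mem_sup (sum_mem fun i _ ↦ Ideal.mul_mem_left _ _ (Ideal.subset_span ⟨i, rfl⟩)) h1

end Points

end Groth.Agent.Lefpen.H707.Expand
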