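import Groth.Agent.Lefpen.H707.Expand
import Groth.Agent.Lefpen.H707.NonSingIdeal

/-!
# Local isolation of ordinary quadratic points in a linear family

`A` a finitely generated `k`-algebra with coordinates, `h a ∈ A` a finite family, `x y : A → D` two points.  If the
member `c₀` is singular at `p₀ ∘ x = p₀ ∘ y` with non-degenerate Hessian then there is a function `Φ` on `D × 𝔸^α`
non-zero at `(p₀, c₀)` such that on `Φ ≠ 0` two singular points of a member coincide.
-/

set_option autoImplicit false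

open MvPolynomial

namespace Groth.Agent.Lefpen.H707.Isolate

open Expand NonSingIdeal

variable {k : Type*} [Field k] {A D : Type*} [CommRing A] [CommRing D] [Algebra k A] [Algebra k D]
  {n : ℕ} {α : Type*} [Fintype α]

/-- The expansion coefficients `b` of the family `h`. -/
def IsHess (c : Coords k A n) (h : α → A) (b : α → Fin n → Fin n → A) : Prop :=
  ∀ a, (del k (h a) - ∑ i, (c.d i (h a) ⊗ₜ[k] (1 : A)) * del k (c.T i) -
        ∑ i, ∑ j, (b a i j ⊗ₜ[k] (1 : A)) * (del k (c.T i) * del k (c.T j)) ∈ KaehlerDifferential.ideal k A ^ 3) ∧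
      ∀ l, del k (c.d l (h a)) - ∑ j, ((b a l j + b a j l) ⊗ₜ[k] (1 : A)) * del k (c.T j) ∈
        KaehlerDifferential.ideal k A ^ 2

omit [Fintype α] in
theorem exists_isHess (c : Coords k A n) (h : α → A) : ∃ b, IsHess c h b := by
  choose b hb using fun a ↦ second_order c (h a)
  exact ⟨b, hb⟩

/-- The member `e` of the family is singular at the point `p`. -/
def SingAt (c : Coords k A n) (h : α → A) (p : A →ₐ[k] k) (e : α → k) : Prop :=
  (∑ a, e a * p (h a) = 0) ∧ ∀ l, ∑ a, e a * p (c.d l (h a)) = 0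

theorem exists_isolating [IsAlgClosed k] [Algebra.EssFiniteType k A] (c : Coords k A n) (x y : A →ₐ[k] D)
    (h : α → A) {b : α → Fin n → Fin n → A} (hb : IsHess c h b) (p₀ : D →ₐ[k] k)
    (hp₀ : p₀.comp x = p₀.comp y) (e₀ : α → k) (hs : SingAt c h (p₀.comp x) e₀)
    (hns : ∀ v : Fin n → k, v ≠ 0 → eval v (quad fun i j ↦ ∑ a, e₀ a * p₀ (x (b a i j))) = 0 →
      ∃ l, eval v (pderiv l (quad fun i j ↦ ∑ a, e₀ a * p₀ (x (b a i j)))) ≠ 0) :
    ∃ Φ : MvPolynomial α D, eval₂ (p₀ : D →+* k) e₀ Φ ≠ 0 ∧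
      ∀ (p : D →ₐ[k] k) (e : α → k), eval₂ (p : D →+* k) e Φ ≠ 0 →
        SingAt c h (p.comp x) e → SingAt c h (p.comp y) e → p.comp x = p.comp y := by
  classical
  -- the equations of singularity at both points
  let sx : Option (Fin n) → MvPolynomial α D := fun o ↦
    o.elim (∑ a, X a * MvPolynomial.C (x (h a))) (fun l ↦ ∑ a, X a * MvPolynomial.C (x (c.d l (h a))))
  let sy : Option (Fin n) → MvPolynomial α D := fun o ↦
    o.elim (∑ a, X a * MvPolynomial.C (y (h a))) (fun l ↦ ∑ a, X a * MvPolynomial.C (y (c.d l (h a))))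
  let I : Ideal (MvPolynomial α D) := Ideal.span (Set.range sx ∪ Set.range sy)
  let C' := MvPolynomial α D ⧸ I
  let toC : D →ₐ[k] C' := (Ideal.Quotient.mkₐ k I).comp (IsScalarTower.toAlgHom k D (MvPolynomial α D))
  let mkI : MvPolynomial α D →+* C' := Ideal.Quotient.mk I
  have htoC : ∀ z, toC z = mkI (MvPolynomial.C z) := fun z ↦ rfl
  let x' : A →ₐ[k] C' := toC.comp x
  let y' : A →ₐ[k] C' := toC.comp y
  have hx' : ∀ a, x' a = mkI (MvPolynomial.C (x a)) := fun a ↦ rfl
  have hy' : ∀ a, y' a = mkI (MvPolynomial.C (y a)) := fun a ↦ rfl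
  -- points of `C'`
  have hpt : ∀ (p : D →ₐ[k] k) (e : α → k), SingAt c h (p.comp x) e → SingAt c h (p.comp y) e →
      ∃ ev : C' →ₐ[k] k, ∀ z, ev (mkI z) = eval₂ (p : D →+* k) e z := by
    intro p e h1 h2
    let ev₀ : MvPolynomial α D →ₐ[k] k := { eval₂Hom (p : D →+* k) e with
      commutes' := fun r ↦ by
        change eval₂ (p : D →+* k) e (algebraMap k (MvPolynomial α D) r) = _
        rw [IsScalarTower.algebraMap_apply k D (MvPolynomial α D), MvPolynomial.algebraMap_eq, eval₂_C]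
        exact p.commutes r }
    have hev₀ : ∀ z, ev₀ z = eval₂ (p : D →+* k) e z := fun z ↦ rfl
    have hker : ∀ z ∈ I, ev₀ z = 0 := by
      intro z hz
      have : I ≤ RingHom.ker ev₀ := by
        rw [Ideal.span_le]
        rintro _ (⟨o, rfl⟩ | ⟨o, rfl⟩)
        · rw [SetLike.mem_coe, RingHom.mem_ker, hev₀]
          cases o with
          | none =>
            change eval₂ (p : D →+* k) e (∑ a, X a * MvPolynomial.C (x (h a))) = 0
            rw [eval₂_sum]
            simp only [eval₂_mul, eval₂_X, eval₂_C]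
            exact h1.1
          | some l =>
            change eval₂ (p : D →+* k) e (∑ a, X a * MvPolynomial.C (x (c.d l (h a)))) = 0
            rw [eval₂_sum]
            simp only [eval₂_mul, eval₂_X, eval₂_C]
            exact h1.2 l
        · rw [SetLike.mem_coe, RingHom.mem_ker, hev₀]
          cases o with
          | none =>
            change eval₂ (p : D →+* k) e (∑ a, X a * MvPolynomial.C (y (h a))) = 0
            rw [eval₂_sum]
            simp only [eval₂_mul, eval₂_X, eval₂_C]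
            exact h2.1
          | some l =>
            change eval₂ (p : D →+* k) e (∑ a, X a * MvPolynomial.C (y (c.d l (h a)))) = 0
            rw [eval₂_sum]
            simp only [eval₂_mul, eval₂_X, eval₂_C]
            exact h2.2 l
      exact this hz
    exact ⟨Ideal.Quotient.liftₐ I ev₀ hker, fun z ↦ rfl⟩
  obtain ⟨ev, hev⟩ := hpt p₀ e₀ hs (by rw [← hp₀]; exact hs)
  let J : Ideal C' := diagIdeal x' y'
  let δ : Fin n → C' := fun i ↦ y' (c.T i) - x' (c.T i)
  let B : Fin n → Fin n → C' := fun i j ↦ mkI (∑ a, X a * MvPolynomial.C (x (b a i j)))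
  have hzx : ∀ o, mkI (sx o) = 0 := fun o ↦ Ideal.Quotient.eq_zero_iff_mem.2 (Ideal.subset_span (Or.inl ⟨o, rfl⟩))
  have hzy : ∀ o, mkI (sy o) = 0 := fun o ↦ Ideal.Quotient.eq_zero_iff_mem.2 (Ideal.subset_span (Or.inr ⟨o, rfl⟩))
  have hzx0 : ∑ a, mkI (X a) * x' (h a) = 0 := by
    have := hzx none
    change mkI (∑ a, X a * MvPolynomial.C (x (h a))) = 0 at this
    rw [map_sum] at this
    simp only [map_mul] at this
    exact this
  have hzy0 : ∑ a, mkI (X a) * y' (h a) = 0 := by
    have := hzy none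
    change mkI (∑ a, X a * MvPolynomial.C (y (h a))) = 0 at this
    rw [map_sum] at this
    simp only [map_mul] at this
    exact this
  have hzx1 : ∀ l, ∑ a, mkI (X a) * x' (c.d l (h a)) = 0 := by
    intro l
    have := hzx (some l)
    change mkI (∑ a, X a * MvPolynomial.C (x (c.d l (h a)))) = 0 at this
    rw [map_sum] at this
    simp only [map_mul] at this
    exact this
  have hzy1 : ∀ l, ∑ a, mkI (X a) * y' (c.d l (h a)) = 0 := by
    intro l
    have := hzy (some l)
    change mkI (∑ a, X a * MvPolynomial.C (y (c.d l (h a)))) = 0 at this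
    rw [map_sum] at this
    simp only [map_mul] at this
    exact this
  have hB : ∀ i j, B i j = ∑ a, mkI (X a) * x' (b a i j) := by
    intro i j
    change mkI (∑ a, X a * MvPolynomial.C (x (b a i j))) = _
    rw [map_sum]
    simp only [map_mul]
    rfl
  have hJ1 : ∑ i, ∑ j, B i j * (δ i * δ j) ∈ J ^ 3 := by
    have h1 : ∑ a, mkI (X a) * (y' (h a) - x' (h a) - ∑ i, x' (c.d i (h a)) * δ i -
        ∑ i, ∑ j, x' (b a i j) * (δ i * δ j)) ∈ J ^ 3 :=
      sum_mem fun a _ ↦ Ideal.mul_mem_left _ _ (second_order_points x' y' c (h a) (hb a).1)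
    have h2 : ∑ a, mkI (X a) * (y' (h a) - x' (h a) - ∑ i, x' (c.d i (h a)) * δ i -
        ∑ i, ∑ j, x' (b a i j) * (δ i * δ j)) = - ∑ i, ∑ j, B i j * (δ i * δ j) := by
      simp only [mul_sub, Finset.sum_sub_distrib, hzx0, hzy0, sub_zero, zero_sub, hB, Finset.mul_sum,
        Finset.sum_mul]
      have e1 : ∑ a, ∑ i, mkI (X a) * (x' (c.d i (h a)) * δ i) = 0 := by
        rw [Finset.sum_comm]
        refine Finset.sum_eq_zero fun i _ ↦ ?_
        simp only [← mul_assoc, ← Finset.sum_mul, hzx1, zero_mul]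
      rw [e1, neg_zero, zero_sub]
      congr 1
      rw [Finset.sum_comm]
      refine Finset.sum_congr rfl fun i _ ↦ ?_
      rw [Finset.sum_comm]
      refine Finset.sum_congr rfl fun j _ ↦ Finset.sum_congr rfl fun a _ ↦ ?_
      ring
    rw [h2] at h1
    exact neg_mem_iff.1 h1
  have hJ2 : ∀ l, ∑ j, (B l j + B j l) * δ j ∈ J ^ 2 := by
    intro l
    have h1 : ∑ a, mkI (X a) * (y' (c.d l (h a)) - x' (c.d l (h a)) -
        ∑ j, (x' (b a l j) + x' (b a j l)) * δ j) ∈ J ^ 2 :=
      sum_mem fun a _ ↦ Ideal.mul_mem_left _ _ (polar_points x' y' c (h a) l ((hb a).2 l))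
    have h2 : ∑ a, mkI (X a) * (y' (c.d l (h a)) - x' (c.d l (h a)) -
        ∑ j, (x' (b a l j) + x' (b a j l)) * δ j) = - ∑ j, (B l j + B j l) * δ j := by
      have e2 : ∀ j, (B l j + B j l) * δ j = ∑ a, mkI (X a) * ((x' (b a l j) + x' (b a j l)) * δ j) := by
        intro j
        rw [hB, hB, ← Finset.sum_add_distrib, Finset.sum_mul]
        refine Finset.sum_congr rfl fun a _ ↦ ?_
        ring
      simp only [mul_sub, Finset.sum_sub_distrib, hzx1, hzy1, sub_zero, zero_sub, e2]
      congr 1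
      rw [Finset.sum_comm]
      refine Finset.sum_congr rfl fun a _ ↦ ?_
      rw [Finset.mul_sum]
    rw [h2] at h1
    exact neg_mem_iff.1 h1
  have hevJ : ∀ z ∈ J, ev z = 0 := by
    intro z hz
    have : J ≤ RingHom.ker ev := by
      change Ideal.span _ ≤ _
      rw [Ideal.span_le]
      rintro _ ⟨a, rfl⟩
      rw [SetLike.mem_coe, RingHom.mem_ker, map_sub, hx', hy', hev, hev, eval₂_C, eval₂_C, sub_eq_zero]
      exact (DFunLike.congr_fun hp₀ a).symm
    exact this hz
  have hevB : (fun i j ↦ ev (B i j)) = fun i j ↦ ∑ a, e₀ a * p₀ (x (b a i j)) := by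
    funext i j
    change ev (mkI _) = _
    rw [hev, eval₂_sum]
    simp only [eval₂_mul, eval₂_X, eval₂_C]
    rfl
  obtain ⟨Φ, M, hΦ1, hΦ⟩ := exists_annihilator J (diagIdeal_fg x' y') δ (fun i ↦ sub_mem_diagIdeal x' y' _)
    (diagIdeal_le x' y' c) ev hevJ B hJ1 hJ2 (by rw [hevB]; exact hns)
  obtain ⟨Φ, rfl⟩ := Ideal.Quotient.mk_surjective Φ
  refine ⟨Φ, ?_, ?_⟩
  · have : ev (mkI Φ) = 1 := hΦ1
    rw [hev] at this
    rw [this]
    exact one_ne_zero
  · intro p e hpe h1 h2
    obtain ⟨ev', hev'⟩ := hpt p e h1 h2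
    apply AlgHom.ext
    intro a
    have h3 : mkI Φ * (y' a - x' a) ^ M = 0 := hΦ _ (Ideal.pow_mem_pow (sub_mem_diagIdeal x' y' a) M)
    have h4 := congrArg ev' h3
    rw [map_mul, map_pow, map_sub, map_zero, hx', hy', hev', hev', hev', eval₂_C, eval₂_C] at h4
    have h5 := (mul_eq_zero.1 h4).resolve_left hpe
    exact (sub_eq_zero.1 (eq_zero_of_pow_eq_zero h5)).symm

end Groth.Agent.Lefpen.H707.Isolate
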