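import Groth.Agent.Lefpen.H707.PowIdeal
import Groth.Agent.CalgB.PowField
import Groth.Prelude.Def_LefPen

/-!
# Parameters coming from a presentation of the completion

If the completion of a Noetherian local ring `S` over a field `k` is `k[[T_0, …, T_m]]/(Q)` with `Q` beginning in
degree two with quadratic part `Q₂`, then there are elements `s_i` of the maximal ideal, linearly independent modulo
the square over `k`, such that `Q₂(s) ∈ 𝔪³`.
-/

set_option autoImplicit false

universe u

open IsLocalRing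

namespace Groth.Agent.Lefpen.H707.Params

section Completion

variable {S : Type*} [CommRing S] (I : Ideal S)

theorem evalₐ_eq_zero_iff (hI : I.FG) (n : ℕ) (x : AdicCompletion I S) :
    AdicCompletion.evalₐ I n x = 0 ↔ x ∈ (I.map (algebraMap S (AdicCompletion I S))) ^ n := by
  have h1 : AdicCompletion.evalₐ I n x = 0 ↔ x ∈ (AdicCompletion.eval I S n).ker := by
    rw [LinearMap.mem_ker]
    have h : (I ^ n • ⊤ : Ideal S) = I ^ n := by ext x; simp
    exact (Ideal.quotientEquivAlgOfEq S h).map_eq_zero_iff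
  rw [h1, ← AdicCompletion.pow_smul_top_eq_ker_eval hI, Ideal.smul_top_eq_map, Ideal.map_pow]
  rfl

theorem factor_evalₐ {m n : ℕ} (h : m ≤ n) (x : AdicCompletion I S) :
    Ideal.Quotient.factor (Ideal.pow_le_pow_right h) (AdicCompletion.evalₐ I n x) =
      AdicCompletion.evalₐ I m x := by
  obtain ⟨y, rfl⟩ := AdicCompletion.mk_surjective I S x
  rw [AdicCompletion.evalₐ_mk, AdicCompletion.evalₐ_mk, Ideal.Quotient.factor_mk]
  exact AdicCompletion.Ideal.mk_eq_mk I h y

end Completion

variable {k : Type u} [Field k] {S : Type u} [CommRing S] [IsLocalRing S] [IsNoetherianRing S]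

theorem exists_params (φ : k →+* S) {m : ℕ} (Q : MvPowerSeries (Fin (m + 1)) k) (Q₂ : LefPen.Form m k 2)
    (e : AdicCompletion (maximalIdeal S) S ≃+* (MvPowerSeries (Fin (m + 1)) k ⧸ Ideal.span {Q}))
    (he : ∀ c : k, e (algebraMap S _ (φ c)) = Ideal.Quotient.mk _ (MvPowerSeries.C c))
    (hQ : LefPen.StartsInDegTwo k Q) (hQ₂ : LefPen.IsQuadPart k Q Q₂) :
    ∃ s : Fin (m + 1) → S, (∀ i, s i ∈ maximalIdeal S) ∧
      (∀ a : Fin (m + 1) → k, ∑ i, φ (a i) * s i ∈ maximalIdeal S ^ 2 → a = 0) ∧
      MvPolynomial.eval₂ φ s Q₂.1 ∈ maximalIdeal S ^ 3 := by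
  classical
  let P := MvPowerSeries (Fin (m + 1)) k
  let J : Ideal P := Ideal.span (Set.range (MvPowerSeries.X : Fin (m + 1) → P))
  have hJ : maximalIdeal P = J := Groth.Agent.CalgB.PowField.maximalIdeal_eq k (m + 1)
  have hfg : (maximalIdeal S).FG := (isNoetherianRing_iff_ideal_fg S).1 inferInstance _
  let Ŝ := AdicCompletion (maximalIdeal S) S
  let π : P →+* P ⧸ Ideal.span {Q} := Ideal.Quotient.mk _
  -- the maximal ideal of the completion corresponds to the image of `J`
  have hQJ : Q ∈ J ^ 2 := by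
    rw [PowIdeal.mem_pow_span_X_iff]
    exact hQ
  have hQJ1 : Q ∈ J := Ideal.pow_le_self two_ne_zero hQJ
  have hmem : ∀ x : P, e.symm (π x) ∈ maximalIdeal Ŝ ↔ x ∈ J := by
    intro x
    rw [← hJ, mem_maximalIdeal, mem_maximalIdeal, mem_nonunits_iff, mem_nonunits_iff, not_iff_not]
    constructor
    · intro h
      have h1 : IsUnit (π x) := by
        have := h.map e
        rwa [RingEquiv.apply_symm_apply] at this
      obtain ⟨y, hy⟩ := Ideal.Quotient.mk_surjective (I := Ideal.span {Q}) (h1.unit⁻¹ : (P ⧸ Ideal.span {Q})ˣ).1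
      have h2 : π (x * y) = 1 := by
        rw [map_mul]
        change π x * Ideal.Quotient.mk _ y = 1
        rw [hy]
        exact h1.mul_val_inv
      have h3 : x * y - 1 ∈ Ideal.span {Q} := by
        rw [← Ideal.Quotient.eq]
        exact h2
      have h4 : x * y - 1 ∈ maximalIdeal P := by
        rw [hJ]
        exact (Ideal.span_singleton_le_iff_mem _).2 hQJ1 h3
      have h5 : IsUnit (x * y) := by
        by_contra hcon
        have h6 : x * y ∈ maximalIdeal P := hcon
        have h7 : (1 : P) ∈ maximalIdeal P := by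
          have := sub_mem h6 h4
          simpa using this
        exact (Ideal.ne_top_iff_one _).1 (maximalIdeal.isMaximal P).ne_top h7
      exact isUnit_of_mul_isUnit_left h5
    · intro h
      exact (h.map π).map e.symm
  let t : Fin (m + 1) → Ŝ := fun i ↦ e.symm (π (MvPowerSeries.X i))
  have ht : ∀ i, t i ∈ maximalIdeal Ŝ := fun i ↦ (hmem _).2 (Ideal.subset_span ⟨i, rfl⟩)
  choose s hs using fun i ↦ Ideal.Quotient.mk_surjective (AdicCompletion.evalₐ (maximalIdeal S) 3 (t i))
  have hmax : maximalIdeal Ŝ = (maximalIdeal S).map (algebraMap S Ŝ) := AdicCompletion.maximalIdeal_eq_map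
  have hsm : ∀ i, s i ∈ maximalIdeal S := by
    intro i
    have h1 := factor_evalₐ (maximalIdeal S) (show 1 ≤ 3 by norm_num) (t i)
    rw [← hs i, Ideal.Quotient.factor_mk] at h1
    have h2 : AdicCompletion.evalₐ (maximalIdeal S) 1 (t i) = 0 := by
      rw [evalₐ_eq_zero_iff _ hfg, ← hmax, pow_one]
      exact ht i
    rw [h2, Ideal.Quotient.eq_zero_iff_mem, pow_one] at h1
    exact h1
  have hφ : ∀ c : k, e.symm (π (MvPowerSeries.C c)) = algebraMap S Ŝ (φ c) := by
    intro c
    rw [RingEquiv.symm_apply_eq]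
    exact (he c).symm
  refine ⟨s, hsm, ?_, ?_⟩
  · intro a ha
    -- the element `∑ a_i t_i` of the completion lies in the square of the maximal ideal
    have h1 : AdicCompletion.evalₐ (maximalIdeal S) 2 (∑ i, algebraMap S Ŝ (φ (a i)) * t i) = 0 := by
      rw [← factor_evalₐ (maximalIdeal S) (show 2 ≤ 3 by norm_num), map_sum, map_sum]
      have h2 : ∀ i ∈ Finset.univ, Ideal.Quotient.factor (Ideal.pow_le_pow_right (show 2 ≤ 3 by norm_num))
          (AdicCompletion.evalₐ (maximalIdeal S) 3 (algebraMap S Ŝ (φ (a i)) * t i)) =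
            Ideal.Quotient.mk (maximalIdeal S ^ 2) (φ (a i) * s i) := by
        intro i _
        rw [map_mul, ← hs i, map_mul, Ideal.Quotient.factor_mk, map_mul]
        congr 1
      rw [Finset.sum_congr rfl h2, ← map_sum, Ideal.Quotient.eq_zero_iff_mem]
      exact ha
    rw [evalₐ_eq_zero_iff _ hfg, ← hmax] at h1
    -- transport to the power series ring
    have h2 : ∀ z ∈ maximalIdeal Ŝ, e z ∈ J.map π := by
      intro z hz
      obtain ⟨x, hx⟩ := Ideal.Quotient.mk_surjective (e z)
      have h3 : e.symm (π x) = z := by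
        rw [RingEquiv.symm_apply_eq]
        exact hx
      rw [← hx]
      refine Ideal.mem_map_of_mem _ ((hmem x).1 ?_)
      rw [h3]
      exact hz
    have h3 : (maximalIdeal Ŝ).map (e : Ŝ →+* P ⧸ Ideal.span {Q}) ≤ J.map π := by
      rw [Ideal.map_le_iff_le_comap]
      exact h2
    have h4 := Ideal.mem_map_of_mem (e : Ŝ →+* P ⧸ Ideal.span {Q}) h1
    rw [Ideal.map_pow] at h4
    have h5 := Ideal.pow_right_mono h3 2 h4
    have h6 : (e : Ŝ →+* P ⧸ Ideal.span {Q}) (∑ i, algebraMap S Ŝ (φ (a i)) * t i) =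
        π (∑ i, MvPowerSeries.C (a i) * MvPowerSeries.X i) := by
      rw [map_sum, map_sum]
      refine Finset.sum_congr rfl fun i _ ↦ ?_
      rw [map_mul, map_mul]
      congr 1
      · exact he (a i)
      · exact e.apply_symm_apply _
    rw [h6, ← Ideal.map_pow, Ideal.mem_map_iff_of_surjective _ Ideal.Quotient.mk_surjective] at h5
    obtain ⟨g, hg, hg'⟩ := h5
    have h7 : g - ∑ i, MvPowerSeries.C (a i) * MvPowerSeries.X i ∈ Ideal.span {Q} := by
      rw [← Ideal.Quotient.eq]
      exact hg'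
    have h8 : ∑ i, MvPowerSeries.C (a i) * MvPowerSeries.X i ∈ J ^ 2 := by
      have h9 := sub_mem hg ((Ideal.span_singleton_le_iff_mem _).2 hQJ h7)
      rwa [sub_sub_cancel] at h9
    rw [PowIdeal.mem_pow_span_X_iff] at h8
    funext j
    have h9 := h8 (Finsupp.single j 1) (by rw [Finsupp.degree_single]; norm_num)
    rw [map_sum, Finset.sum_eq_single j] at h9
    · rw [MvPowerSeries.coeff_C_mul, MvPowerSeries.coeff_X, if_pos rfl, mul_one] at h9
      exact h9
    · intro b _ hb
      rw [MvPowerSeries.coeff_C_mul, MvPowerSeries.coeff_X, if_neg, mul_zero]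
      intro h10
      exact hb (Finsupp.single_left_injective one_ne_zero h10).symm
    · intro h10
      exact absurd (Finset.mem_univ _) h10
  · -- the quadratic part
    have h1 : ((Q₂.1 : MvPolynomial (Fin (m + 1)) k) : P) - Q ∈ J ^ 3 := by
      rw [PowIdeal.mem_pow_span_X_iff]
      intro c hc
      rw [map_sub, MvPolynomial.coeff_coe, sub_eq_zero]
      by_cases hc2 : c.degree = 2
      · exact hQ₂ c hc2
      · rw [hQ c (by omega)]
        exact (MvPolynomial.mem_homogeneousSubmodule 2 _).1 Q₂.2 |>.coeff_eq_zero hc2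
    have h2 : e.symm (π ((Q₂.1 : MvPolynomial (Fin (m + 1)) k) : P)) ∈ (maximalIdeal Ŝ) ^ 3 := by
      have h3 : π ((Q₂.1 : MvPolynomial (Fin (m + 1)) k) : P) = π (((Q₂.1 : MvPolynomial (Fin (m + 1)) k) : P) - Q) := by
        rw [map_sub, eq_comm, sub_eq_self]
        exact Ideal.Quotient.eq_zero_iff_mem.2 (Ideal.mem_span_singleton_self Q)
      rw [h3]
      have h4 : J ^ 3 ≤ ((maximalIdeal Ŝ) ^ 3).comap ((e.symm : _ →+* Ŝ).comp π) := by
        have h5 : J ≤ (maximalIdeal Ŝ).comap ((e.symm : _ →+* Ŝ).comp π) := fun x hx ↦ (hmem x).2 hx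
        exact (Ideal.pow_right_mono h5 3).trans (Ideal.le_comap_pow _ 3)
      exact h4 h1
    have h3 : e.symm (π ((Q₂.1 : MvPolynomial (Fin (m + 1)) k) : P)) =
        MvPolynomial.eval₂ ((algebraMap S Ŝ).comp φ) t Q₂.1 := by
      have h4 : ((e.symm : _ →+* Ŝ).comp π).comp (MvPolynomial.coeToMvPowerSeries.ringHom) =
          MvPolynomial.eval₂Hom ((algebraMap S Ŝ).comp φ) t := by
        apply MvPolynomial.ringHom_ext
        · intro c
          rw [RingHom.comp_apply, MvPolynomial.coeToMvPowerSeries.ringHom_apply, MvPolynomial.coe_C,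
            MvPolynomial.eval₂Hom_C]
          exact hφ c
        · intro i
          rw [RingHom.comp_apply, MvPolynomial.coeToMvPowerSeries.ringHom_apply, MvPolynomial.coe_X,
            MvPolynomial.eval₂Hom_X']
          rfl
      exact DFunLike.congr_fun h4 Q₂.1
    rw [h3, hmax, ← evalₐ_eq_zero_iff _ hfg] at h2
    have h4 : (AdicCompletion.evalₐ (maximalIdeal S) 3 : Ŝ →+* S ⧸ maximalIdeal S ^ 3)
        (MvPolynomial.eval₂ ((algebraMap S Ŝ).comp φ) t Q₂.1) =
        Ideal.Quotient.mk (maximalIdeal S ^ 3) (MvPolynomial.eval₂ φ s Q₂.1) := by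
      rw [MvPolynomial.hom_eval₂, MvPolynomial.hom_eval₂]
      congr 1
      funext i
      exact (hs i).symm
    have h5 : (AdicCompletion.evalₐ (maximalIdeal S) 3 : Ŝ →+* S ⧸ maximalIdeal S ^ 3)
        (MvPolynomial.eval₂ ((algebraMap S Ŝ).comp φ) t Q₂.1) = 0 := h2
    rw [h5, eq_comm, Ideal.Quotient.eq_zero_iff_mem] at h4
    exact h4

end Groth.Agent.Lefpen.H707.Params
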