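import Groth.Agent.CalgB.PowSerMap

/-!
# Powers of the ideal of the variables in a power series ring

`mem_pow_span_X_iff`: `f ∈ (X_i)^n` iff all coefficients of `f` of degree `< n` vanish.
-/

set_option autoImplicit false

open MvPowerSeries

namespace Groth.Agent.Lefpen.H707.PowIdeal

variable {σ R : Type*} [CommRing R]

theorem coeff_eq_zero_of_mem_pow (n : ℕ) {f : MvPowerSeries σ R}
    (hf : f ∈ Ideal.span (Set.range (X : σ → MvPowerSeries σ R)) ^ n) (e : σ →₀ ℕ)
    (he : e.degree < n) : coeff e f = 0 := by
  classical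
  induction n generalizing f e with
  | zero => exact absurd he (Nat.not_lt_zero _)
  | succ n ih =>
    rw [pow_succ] at hf
    refine Submodule.mul_induction_on (C := fun f ↦ coeff e f = 0) hf ?_ ?_
    · intro g hg h hh
      rw [coeff_mul]
      refine Finset.sum_eq_zero ?_
      rintro ⟨a, b⟩ hab
      rw [Finset.mem_antidiagonal] at hab
      simp only at hab ⊢
      have hdeg : a.degree + b.degree = e.degree := by rw [← hab, map_add]
      by_cases hb : b = 0
      · have h0 : coeff b h = 0 := by
          subst hb
          have : Ideal.span (Set.range (X : σ → MvPowerSeries σ R)) ≤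
              RingHom.ker (constantCoeff (σ := σ) (R := R)) := by
            rw [Ideal.span_le]
            rintro _ ⟨i, rfl⟩
            simp
          simpa using this hh
        rw [h0, mul_zero]
      · have hb' : 0 < b.degree := by
          rw [Nat.pos_iff_ne_zero]
          intro h0
          exact hb ((Finsupp.degree_eq_zero_iff b).1 h0)
        rw [ih hg a (by omega), zero_mul]
    · intro x y hx hy
      rw [map_add, hx, hy, add_zero]

theorem mem_pow_span_X_iff [Finite σ] (n : ℕ) (f : MvPowerSeries σ R) :
    f ∈ Ideal.span (Set.range (X : σ → MvPowerSeries σ R)) ^ n ↔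
      ∀ e : σ →₀ ℕ, e.degree < n → coeff e f = 0 := by
  refine ⟨fun hf e he ↦ coeff_eq_zero_of_mem_pow n hf e he, fun hf ↦ ?_⟩
  obtain ⟨P, hP⟩ := Groth.Agent.CalgB.PowSerMap.exists_mvPolynomial_sub_mem n f
  have h1 : P ∈ MvPolynomial.idealOfVars σ R ^ n := by
    rw [MvPolynomial.mem_pow_idealOfVars_iff']
    intro e he
    have h2 := coeff_eq_zero_of_mem_pow n hP e he
    rw [map_sub, hf e he, zero_sub, neg_eq_zero, MvPolynomial.coeff_coe] at h2
    exact h2
  have h3 : (P : MvPowerSeries σ R) ∈ Ideal.span (Set.range (X : σ → MvPowerSeries σ R)) ^ n := by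
    rw [← Groth.Agent.Ega41.PowComplete.map_idealOfVars_eq, ← Ideal.map_pow]
    have h4 := Ideal.mem_map_of_mem (algebraMap (MvPolynomial σ R) (MvPowerSeries σ R)) h1
    have h5 : algebraMap (MvPolynomial σ R) (MvPowerSeries σ R) P = (P : MvPowerSeries σ R) := by
      simp [MvPowerSeries.algebraMap_apply']
    rwa [h5] at h4
  have h6 := add_mem hP h3
  rwa [sub_add_cancel] at h6

end Groth.Agent.Lefpen.H707.PowIdeal
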