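import Groth.Agent.Lefpen.H705.ClosedPoint
import Groth.Agent.Lefpen.H727.Compact

/-!
# Evaluation at closed points of schemes locally of finite type over an algebraically closed field
-/

set_option autoImplicit false
universe u

open CategoryTheory AlgebraicGeometry Limits TopologicalSpace Opposite

namespace Groth.Agent.Lefpen.H707.PtEval

open LefPen IsLocalRing Groth.Agent.Lefpen.H705.ClosedPoint Groth.Agent.Lefpen.H727.Compact

variable {k : Type u} [Field k] [IsAlgClosed k] {X Y : Scheme.{u}}

section Eval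

variable (g : X ⟶ Spec (CommRingCat.of k)) [LocallyOfFiniteType g]

theorem residue_toStalk_bijective (x : X) (hx : IsClosed ({x} : Set X)) :
    Function.Bijective ((residue (X.presheaf.stalk x)).comp (toStalk k g x)) := by
  refine ⟨RingHom.injective _, fun y ↦ ?_⟩
  obtain ⟨z, rfl⟩ := residue_surjective y
  obtain ⟨c, hc⟩ := exists_sub_toStalk_mem g x hx z
  refine ⟨c, ?_⟩
  rw [RingHom.comp_apply, eq_comm, ← sub_eq_zero, ← map_sub, residue_eq_zero_iff]
  exact hc

/-- The value of a germ at a closed point. -/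
noncomputable def stalkEval (x : X) (hx : IsClosed ({x} : Set X)) : X.presheaf.stalk x →+* k :=
  ((RingEquiv.ofBijective _ (residue_toStalk_bijective g x hx)).symm : _ →+* k).comp
    (residue (X.presheaf.stalk x))

theorem stalkEval_toStalk (x : X) (hx : IsClosed ({x} : Set X)) (c : k) :
    stalkEval g x hx (toStalk k g x c) = c :=
  (RingEquiv.ofBijective _ (residue_toStalk_bijective g x hx)).symm_apply_apply c

theorem stalkEval_eq_zero_iff (x : X) (hx : IsClosed ({x} : Set X)) (z : X.presheaf.stalk x) :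
    stalkEval g x hx z = 0 ↔ z ∈ maximalIdeal (X.presheaf.stalk x) := by
  rw [← residue_eq_zero_iff]
  exact (RingEquiv.ofBijective _ (residue_toStalk_bijective g x hx)).symm.map_eq_zero_iff

theorem sub_stalkEval_mem (x : X) (hx : IsClosed ({x} : Set X)) (z : X.presheaf.stalk x) :
    z - toStalk k g x (stalkEval g x hx z) ∈ maximalIdeal (X.presheaf.stalk x) := by
  rw [← stalkEval_eq_zero_iff g x hx, map_sub, stalkEval_toStalk, sub_self]

theorem eq_stalkEval (x : X) (hx : IsClosed ({x} : Set X)) (φ : X.presheaf.stalk x →+* k)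
    (hφ : ∀ c, φ (toStalk k g x c) = c) : φ = stalkEval g x hx := by
  have hker : RingHom.ker φ = maximalIdeal (X.presheaf.stalk x) := by
    have hs : Function.Surjective φ := fun c ↦ ⟨_, hφ c⟩
    exact IsLocalRing.eq_maximalIdeal (RingHom.ker_isMaximal_of_surjective φ hs)
  apply RingHom.ext
  intro z
  have h1 := sub_stalkEval_mem g x hx z
  rw [← hker, RingHom.mem_ker, map_sub, hφ, sub_eq_zero] at h1
  exact h1

/-- The value of a section at a closed point. -/
noncomputable def val (x : X) (hx : IsClosed ({x} : Set X)) (U : X.Opens) (hU : x ∈ U) : Γ(X, U) →+* k :=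
  (stalkEval g x hx).comp (X.presheaf.germ U x hU).hom

omit [IsAlgClosed k] [LocallyOfFiniteType g] in
theorem germ_cst (x : X) (U : X.Opens) (hU : x ∈ U) (c : k) :
    (X.presheaf.germ U x hU).hom (cst g U c) = toStalk k g x c := by
  have h1 : (X.presheaf.germ U x hU).hom (cst g U c) =
      (X.presheaf.map (homOfLE (le_top : U ≤ ⊤)).op ≫ X.presheaf.germ U x hU).hom
        (g.appTop.hom ((Scheme.ΓSpecIso (CommRingCat.of k)).inv.hom c)) := rfl
  rw [h1, X.presheaf.germ_res]
  rfl

theorem val_cst (x : X) (hx : IsClosed ({x} : Set X)) (U : X.Opens) (hU : x ∈ U) (c : k) :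
    val g x hx U hU (cst g U c) = c := by
  rw [val, RingHom.comp_apply, germ_cst, stalkEval_toStalk]

theorem mem_basicOpen_iff (x : X) (hx : IsClosed ({x} : Set X)) (U : X.Opens) (hU : x ∈ U) (a : Γ(X, U)) :
    x ∈ X.basicOpen a ↔ val g x hx U hU a ≠ 0 := by
  rw [X.mem_basicOpen a x hU, val, RingHom.comp_apply, Ne, stalkEval_eq_zero_iff, mem_maximalIdeal,
    mem_nonunits_iff, not_not]

theorem val_eq_zero_iff (x : X) (hx : IsClosed ({x} : Set X)) (U : X.Opens) (hU : x ∈ U) (a : Γ(X, U)) :
    val g x hx U hU a = 0 ↔ (X.presheaf.germ U x hU).hom a ∈ maximalIdeal (X.presheaf.stalk x) := by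
  rw [val, RingHom.comp_apply, stalkEval_eq_zero_iff]

end Eval

section Funct

variable (g : X ⟶ Spec (CommRingCat.of k)) [LocallyOfFiniteType g]
  (g' : Y ⟶ Spec (CommRingCat.of k)) [LocallyOfFiniteType g'] (h : Y ⟶ X) (w : h ≫ g = g')

include w

theorem stalkEval_comp (y : Y) (hy : IsClosed ({y} : Set Y)) (hx : IsClosed ({h y} : Set X)) :
    (stalkEval g' y hy).comp (h.stalkMap y).hom = stalkEval g (h y) hx := by
  apply eq_stalkEval
  intro c
  have h1 : (h.stalkMap y).hom (toStalk k g (h y) c) = toStalk k g' y c :=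
    Groth.Agent.CurvesB.StalkSemilinear.stalkMap_stMap h g' g (RingHom.id k) (by simpa using w) y c
  rw [RingHom.comp_apply, h1, stalkEval_toStalk]

/-- Values are compatible with pullback of sections. -/
theorem val_appLE (y : Y) (hy : IsClosed ({y} : Set Y)) (hx : IsClosed ({h y} : Set X)) (U : X.Opens)
    (W : Y.Opens) (hyW : y ∈ W) (e : W ≤ h ⁻¹ᵁ U) (a : Γ(X, U)) :
    val g' y hy W hyW ((h.appLE U W e).hom a) = val g (h y) hx U (e hyW) a := by
  have h1 : (Y.presheaf.germ W y hyW).hom ((h.appLE U W e).hom a) =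
      (h.stalkMap y).hom ((X.presheaf.germ U (h y) (e hyW)).hom a) := by
    have h2 : h.appLE U W e ≫ Y.presheaf.germ W y hyW = X.presheaf.germ U (h y) (e hyW) ≫ h.stalkMap y := by
      rw [Scheme.Hom.germ_stalkMap, Scheme.Hom.appLE, Category.assoc, Y.presheaf.germ_res]
    exact congr($(h2).hom a)
  rw [val, RingHom.comp_apply, h1, ← RingHom.comp_apply, stalkEval_comp g g' h w y hy hx]
  rfl

end Funct

end Groth.Agent.Lefpen.H707.PtEval
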